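import Cfsg.Agent.Lib.HallGen.OrderType

/-!
Factors of the two groups with equal order types.
-/

set_option maxHeartbeats 2000000

open CfsgLib.HallGen.OrderType

namespace CfsgLib.HallGen.OrderTypeExample

/-- The acting group of factor 0. -/
abbrev A0 : Type := Multiplicative (ZMod 2)

/-- Block 1 of factor 0. -/
def f0_1 (a : A0) (v : ZMod 3) : ZMod 3 := (fun v : ZMod 3 => 2 * v)^[(Multiplicative.toAdd a).val] (v)

/-- The action on block 1 of factor 0. -/
def φ0_1 : A0 →* MulAut (Multiplicative (ZMod 3)) :=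
  mkAct f0_1 (by decide +kernel) (by decide +kernel) (by decide +kernel)

/-- Layer 1 of factor 0. -/
abbrev G0_1 : Type := Multiplicative (ZMod 3) ⋊[φ0_1.comp (MonoidHom.id A0)] A0

/-- The projection of layer 1 of factor 0. -/
def π0_1 : G0_1 →* A0 := (MonoidHom.id A0).comp SemidirectProduct.rightHom

/-- Factor 0. -/
abbrev G0 : Type := G0_1

/-- The counts of factor 0. -/
def tbl0 : ℕ → ℕ := fun n => if n = 1 then 1 else if n = 2 then 4 else if n = 3 then 3 else if n = 4 then 4 else if n = 6 then 6 else if n = 7 then 1 else if n = 12 then 6 else if n = 14 then 4 else if n = 21 then 3 else if n = 28 then 4 else if n = 42 then 6 else if n = 84 then 6 else 0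

theorem eval0 : ∀ n ∈ Nat.divisors 84, (∑ a : A0, (if a ^ n = 1 then 1 else 0) * kcount (f0_1 a) n) = tbl0 n := by
  decide +kernel

theorem cnt0 (n : ℕ) (hn : n ∈ Nat.divisors 84) : cnt G0 n = tbl0 n := by
  rw [cnt_eq_sum_prof π0_1, ← eval0 n hn]
  refine Finset.sum_congr rfl fun a _ => ?_

  refine (prof_layer _ _ _ _ _ n a).trans ?_

  congr 1
  exact prof_id n a

theorem card0 : Nat.card G0 = tbl0 84 := by
  simp only [card_semidirect, Nat.card_prod, Nat.card_zmod, Nat.card_congr Multiplicative.toAdd]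
  rfl

theorem solvable0 : Group.IsSolvable G0 := by
  haveI : Group.IsSolvable A0 := Group.isSolvable_of_comm fun a b => mul_comm a b

  exact isSolvable_semidirect _

/-- The acting group of factor 1. -/
abbrev A1 : Type := Multiplicative (ZMod 2)

/-- Block 1 of factor 1. -/
def f1_1 (a : A1) (v : ZMod 3 × ZMod 3) : ZMod 3 × ZMod 3 := (fun v : ZMod 3 × ZMod 3 => (2 * v.1, 2 * v.1 + v.2))^[(Multiplicative.toAdd a).val] (v)

/-- The action on block 1 of factor 1. -/
def φ1_1 : A1 →* MulAut (Multiplicative (ZMod 3 × ZMod 3)) :=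
  mkAct f1_1 (by decide +kernel) (by decide +kernel) (by decide +kernel)

/-- Layer 1 of factor 1. -/
abbrev G1_1 : Type := Multiplicative (ZMod 3 × ZMod 3) ⋊[φ1_1.comp (MonoidHom.id A1)] A1

/-- The projection of layer 1 of factor 1. -/
def π1_1 : G1_1 →* A1 := (MonoidHom.id A1).comp SemidirectProduct.rightHom

/-- Factor 1. -/
abbrev G1 : Type := G1_1

/-- The counts of factor 1. -/
def tbl1 : ℕ → ℕ := fun n => if n = 1 then 1 else if n = 2 then 4 else if n = 3 then 9 else if n = 4 then 4 else if n = 6 then 18 else if n = 7 then 1 else if n = 12 then 18 else if n = 14 then 4 else if n = 21 then 9 else if n = 28 then 4 else if n = 42 then 18 else if n = 84 then 18 else 0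

theorem eval1 : ∀ n ∈ Nat.divisors 84, (∑ a : A1, (if a ^ n = 1 then 1 else 0) * kcount (f1_1 a) n) = tbl1 n := by
  decide +kernel

theorem cnt1 (n : ℕ) (hn : n ∈ Nat.divisors 84) : cnt G1 n = tbl1 n := by
  rw [cnt_eq_sum_prof π1_1, ← eval1 n hn]
  refine Finset.sum_congr rfl fun a _ => ?_

  refine (prof_layer _ _ _ _ _ n a).trans ?_

  congr 1
  exact prof_id n a

theorem card1 : Nat.card G1 = tbl1 84 := by
  simp only [card_semidirect, Nat.card_prod, Nat.card_zmod, Nat.card_congr Multiplicative.toAdd]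
  rfl

theorem solvable1 : Group.IsSolvable G1 := by
  haveI : Group.IsSolvable A1 := Group.isSolvable_of_comm fun a b => mul_comm a b

  exact isSolvable_semidirect _

/-- The acting group of factor 2. -/
abbrev A2 : Type := Multiplicative (ZMod 2)

/-- Block 1 of factor 2. -/
def f2_1 (a : A2) (v : ZMod 2 × ZMod 2) : ZMod 2 × ZMod 2 := (fun v : ZMod 2 × ZMod 2 => (v.1 + v.2, v.2))^[(Multiplicative.toAdd a).val] (v)

/-- The action on block 1 of factor 2. -/
def φ2_1 : A2 →* MulAut (Multiplicative (ZMod 2 × ZMod 2)) :=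
  mkAct f2_1 (by decide +kernel) (by decide +kernel) (by decide +kernel)

/-- Layer 1 of factor 2. -/
abbrev G2_1 : Type := Multiplicative (ZMod 2 × ZMod 2) ⋊[φ2_1.comp (MonoidHom.id A2)] A2

/-- The projection of layer 1 of factor 2. -/
def π2_1 : G2_1 →* A2 := (MonoidHom.id A2).comp SemidirectProduct.rightHom

/-- Block 2 of factor 2. -/
def f2_2 (a : A2) (v : ZMod 3) : ZMod 3 := (fun v : ZMod 3 => 2 * v)^[(Multiplicative.toAdd a).val] (v)

/-- The action on block 2 of factor 2. -/
def φ2_2 : A2 →* MulAut (Multiplicative (ZMod 3)) :=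
  mkAct f2_2 (by decide +kernel) (by decide +kernel) (by decide +kernel)

/-- Layer 2 of factor 2. -/
abbrev G2_2 : Type := Multiplicative (ZMod 3) ⋊[φ2_2.comp π2_1] G2_1

/-- The projection of layer 2 of factor 2. -/
def π2_2 : G2_2 →* A2 := π2_1.comp SemidirectProduct.rightHom

/-- Block 3 of factor 2. -/
def f2_3 (_a : A2) (v : ZMod 3) : ZMod 3 := v

/-- The action on block 3 of factor 2. -/
def φ2_3 : A2 →* MulAut (Multiplicative (ZMod 3)) :=
  mkAct f2_3 (by decide +kernel) (by decide +kernel) (by decide +kernel)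

/-- Layer 3 of factor 2. -/
abbrev G2_3 : Type := Multiplicative (ZMod 3) ⋊[φ2_3.comp π2_2] G2_2

/-- The projection of layer 3 of factor 2. -/
def π2_3 : G2_3 →* A2 := π2_2.comp SemidirectProduct.rightHom

/-- Factor 2. -/
abbrev G2 : Type := G2_3

/-- The counts of factor 2. -/
def tbl2 : ℕ → ℕ := fun n => if n = 1 then 1 else if n = 2 then 10 else if n = 3 then 9 else if n = 4 then 16 else if n = 6 then 54 else if n = 7 then 1 else if n = 12 then 72 else if n = 14 then 10 else if n = 21 then 9 else if n = 28 then 16 else if n = 42 then 54 else if n = 84 then 72 else 0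

theorem eval2 : ∀ n ∈ Nat.divisors 84, (∑ a : A2, (if a ^ n = 1 then 1 else 0) * kcount (f2_1 a) n * kcount (f2_2 a) n * kcount (f2_3 a) n) = tbl2 n := by
  decide +kernel

theorem cnt2 (n : ℕ) (hn : n ∈ Nat.divisors 84) : cnt G2 n = tbl2 n := by
  rw [cnt_eq_sum_prof π2_3, ← eval2 n hn]
  refine Finset.sum_congr rfl fun a _ => ?_

  refine (prof_layer _ _ _ _ _ n a).trans ?_

  congr 1
  refine (prof_layer _ _ _ _ _ n a).trans ?_

  congr 1
  refine (prof_layer _ _ _ _ _ n a).trans ?_

  congr 1
  exact prof_id n a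

theorem card2 : Nat.card G2 = tbl2 84 := by
  simp only [card_semidirect, Nat.card_prod, Nat.card_zmod, Nat.card_congr Multiplicative.toAdd]
  rfl

theorem solvable2 : Group.IsSolvable G2 := by
  haveI : Group.IsSolvable A2 := Group.isSolvable_of_comm fun a b => mul_comm a b

  haveI : Group.IsSolvable G2_1 := isSolvable_semidirect _

  haveI : Group.IsSolvable G2_2 := isSolvable_semidirect _

  exact isSolvable_semidirect _

/-- The acting group of factor 3. -/
abbrev A3 : Type := Multiplicative (ZMod 2)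

/-- Block 1 of factor 3. -/
def f3_1 (a : A3) (v : ZMod 2 × ZMod 2) : ZMod 2 × ZMod 2 := (fun v : ZMod 2 × ZMod 2 => (v.1 + v.2, v.2))^[(Multiplicative.toAdd a).val] (v)

/-- The action on block 1 of factor 3. -/
def φ3_1 : A3 →* MulAut (Multiplicative (ZMod 2 × ZMod 2)) :=
  mkAct f3_1 (by decide +kernel) (by decide +kernel) (by decide +kernel)

/-- Layer 1 of factor 3. -/
abbrev G3_1 : Type := Multiplicative (ZMod 2 × ZMod 2) ⋊[φ3_1.comp (MonoidHom.id A3)] A3

/-- The projection of layer 1 of factor 3. -/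
def π3_1 : G3_1 →* A3 := (MonoidHom.id A3).comp SemidirectProduct.rightHom

/-- Block 2 of factor 3. -/
def f3_2 (_a : A3) (v : ZMod 3) : ZMod 3 := v

/-- The action on block 2 of factor 3. -/
def φ3_2 : A3 →* MulAut (Multiplicative (ZMod 3)) :=
  mkAct f3_2 (by decide +kernel) (by decide +kernel) (by decide +kernel)

/-- Layer 2 of factor 3. -/
abbrev G3_2 : Type := Multiplicative (ZMod 3) ⋊[φ3_2.comp π3_1] G3_1

/-- The projection of layer 2 of factor 3. -/
def π3_2 : G3_2 →* A3 := π3_1.comp SemidirectProduct.rightHom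

/-- Block 3 of factor 3. -/
def f3_3 (_a : A3) (v : ZMod 3) : ZMod 3 := v

/-- The action on block 3 of factor 3. -/
def φ3_3 : A3 →* MulAut (Multiplicative (ZMod 3)) :=
  mkAct f3_3 (by decide +kernel) (by decide +kernel) (by decide +kernel)

/-- Layer 3 of factor 3. -/
abbrev G3_3 : Type := Multiplicative (ZMod 3) ⋊[φ3_3.comp π3_2] G3_2

/-- The projection of layer 3 of factor 3. -/
def π3_3 : G3_3 →* A3 := π3_2.comp SemidirectProduct.rightHom

/-- Factor 3. -/
abbrev G3 : Type := G3_3

/-- The counts of factor 3. -/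
def tbl3 : ℕ → ℕ := fun n => if n = 1 then 1 else if n = 2 then 6 else if n = 3 then 9 else if n = 4 then 8 else if n = 6 then 54 else if n = 7 then 1 else if n = 12 then 72 else if n = 14 then 6 else if n = 21 then 9 else if n = 28 then 8 else if n = 42 then 54 else if n = 84 then 72 else 0

theorem eval3 : ∀ n ∈ Nat.divisors 84, (∑ a : A3, (if a ^ n = 1 then 1 else 0) * kcount (f3_1 a) n * kcount (f3_2 a) n * kcount (f3_3 a) n) = tbl3 n := by
  decide +kernel

theorem cnt3 (n : ℕ) (hn : n ∈ Nat.divisors 84) : cnt G3 n = tbl3 n := by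
  rw [cnt_eq_sum_prof π3_3, ← eval3 n hn]
  refine Finset.sum_congr rfl fun a _ => ?_

  refine (prof_layer _ _ _ _ _ n a).trans ?_

  congr 1
  refine (prof_layer _ _ _ _ _ n a).trans ?_

  congr 1
  refine (prof_layer _ _ _ _ _ n a).trans ?_

  congr 1
  exact prof_id n a

theorem card3 : Nat.card G3 = tbl3 84 := by
  simp only [card_semidirect, Nat.card_prod, Nat.card_zmod, Nat.card_congr Multiplicative.toAdd]
  rfl

theorem solvable3 : Group.IsSolvable G3 := by
  haveI : Group.IsSolvable A3 := Group.isSolvable_of_comm fun a b => mul_comm a b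

  haveI : Group.IsSolvable G3_1 := isSolvable_semidirect _

  haveI : Group.IsSolvable G3_2 := isSolvable_semidirect _

  exact isSolvable_semidirect _

/-- The acting group of factor 4. -/
abbrev A4 : Type := Multiplicative (ZMod 6) × Multiplicative (ZMod 2)

/-- Block 1 of factor 4. -/
def f4_1 (a : A4) (v : ZMod 7) : ZMod 7 := (fun v : ZMod 7 => 6 * v)^[(Multiplicative.toAdd a.2).val] (v)

/-- The action on block 1 of factor 4. -/
def φ4_1 : A4 →* MulAut (Multiplicative (ZMod 7)) :=
  mkAct f4_1 (by decide +kernel) (by decide +kernel) (by decide +kernel)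

/-- Layer 1 of factor 4. -/
abbrev G4_1 : Type := Multiplicative (ZMod 7) ⋊[φ4_1.comp (MonoidHom.id A4)] A4

/-- The projection of layer 1 of factor 4. -/
def π4_1 : G4_1 →* A4 := (MonoidHom.id A4).comp SemidirectProduct.rightHom

/-- Factor 4. -/
abbrev G4 : Type := G4_1

/-- The counts of factor 4. -/
def tbl4 : ℕ → ℕ := fun n => if n = 1 then 1 else if n = 2 then 16 else if n = 3 then 3 else if n = 4 then 16 else if n = 6 then 48 else if n = 7 then 7 else if n = 12 then 48 else if n = 14 then 28 else if n = 21 then 21 else if n = 28 then 28 else if n = 42 then 84 else if n = 84 then 84 else 0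

theorem eval4 : ∀ n ∈ Nat.divisors 84, (∑ a : A4, (if a ^ n = 1 then 1 else 0) * kcount (f4_1 a) n) = tbl4 n := by
  decide +kernel

theorem cnt4 (n : ℕ) (hn : n ∈ Nat.divisors 84) : cnt G4 n = tbl4 n := by
  rw [cnt_eq_sum_prof π4_1, ← eval4 n hn]
  refine Finset.sum_congr rfl fun a _ => ?_

  refine (prof_layer _ _ _ _ _ n a).trans ?_

  congr 1
  exact prof_id n a

theorem card4 : Nat.card G4 = tbl4 84 := by
  simp only [card_semidirect, Nat.card_prod, Nat.card_zmod, Nat.card_congr Multiplicative.toAdd]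
  rfl

theorem solvable4 : Group.IsSolvable G4 := by
  haveI : Group.IsSolvable A4 := Group.isSolvable_of_comm fun a b => mul_comm a b

  exact isSolvable_semidirect _

/-- The acting group of factor 5. -/
abbrev A5 : Type := Multiplicative (ZMod 4) × Multiplicative (ZMod 2)

/-- Block 1 of factor 5. -/
def f5_1 (a : A5) (v : ZMod 7) : ZMod 7 := (fun v : ZMod 7 => 6 * v)^[(Multiplicative.toAdd a.2).val] (v)

/-- The action on block 1 of factor 5. -/
def φ5_1 : A5 →* MulAut (Multiplicative (ZMod 7)) :=
  mkAct f5_1 (by decide +kernel) (by decide +kernel) (by decide +kernel)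

/-- Layer 1 of factor 5. -/
abbrev G5_1 : Type := Multiplicative (ZMod 7) ⋊[φ5_1.comp (MonoidHom.id A5)] A5

/-- The projection of layer 1 of factor 5. -/
def π5_1 : G5_1 →* A5 := (MonoidHom.id A5).comp SemidirectProduct.rightHom

/-- Block 2 of factor 5. -/
def f5_2 (a : A5) (v : ZMod 3) : ZMod 3 := (fun v : ZMod 3 => 2 * v)^[((Multiplicative.toAdd a.1).val % 2)] (v)

/-- The action on block 2 of factor 5. -/
def φ5_2 : A5 →* MulAut (Multiplicative (ZMod 3)) :=
  mkAct f5_2 (by decide +kernel) (by decide +kernel) (by decide +kernel)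

/-- Layer 2 of factor 5. -/
abbrev G5_2 : Type := Multiplicative (ZMod 3) ⋊[φ5_2.comp π5_1] G5_1

/-- The projection of layer 2 of factor 5. -/
def π5_2 : G5_2 →* A5 := π5_1.comp SemidirectProduct.rightHom

/-- Factor 5. -/
abbrev G5 : Type := G5_2

/-- The counts of factor 5. -/
def tbl5 : ℕ → ℕ := fun n => if n = 1 then 1 else if n = 2 then 16 else if n = 3 then 3 else if n = 4 then 64 else if n = 6 then 48 else if n = 7 then 7 else if n = 12 then 96 else if n = 14 then 28 else if n = 21 then 21 else if n = 28 then 112 else if n = 42 then 84 else if n = 84 then 168 else 0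

theorem eval5 : ∀ n ∈ Nat.divisors 84, (∑ a : A5, (if a ^ n = 1 then 1 else 0) * kcount (f5_1 a) n * kcount (f5_2 a) n) = tbl5 n := by
  decide +kernel

theorem cnt5 (n : ℕ) (hn : n ∈ Nat.divisors 84) : cnt G5 n = tbl5 n := by
  rw [cnt_eq_sum_prof π5_2, ← eval5 n hn]
  refine Finset.sum_congr rfl fun a _ => ?_

  refine (prof_layer _ _ _ _ _ n a).trans ?_

  congr 1
  refine (prof_layer _ _ _ _ _ n a).trans ?_

  congr 1
  exact prof_id n a

theorem card5 : Nat.card G5 = tbl5 84 := by
  simp only [card_semidirect, Nat.card_prod, Nat.card_zmod, Nat.card_congr Multiplicative.toAdd]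
  rfl

theorem solvable5 : Group.IsSolvable G5 := by
  haveI : Group.IsSolvable A5 := Group.isSolvable_of_comm fun a b => mul_comm a b

  haveI : Group.IsSolvable G5_1 := isSolvable_semidirect _

  exact isSolvable_semidirect _

/-- The acting group of factor 6. -/
abbrev A6 : Type := Multiplicative (ZMod 4)

/-- Block 1 of factor 6. -/
def f6_1 (a : A6) (v : ZMod 3 × ZMod 3) : ZMod 3 × ZMod 3 := (fun v : ZMod 3 × ZMod 3 => (v.1 + 2 * v.2, 2 * v.1 + 2 * v.2))^[(Multiplicative.toAdd a).val] (v)

/-- The action on block 1 of factor 6. -/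
def φ6_1 : A6 →* MulAut (Multiplicative (ZMod 3 × ZMod 3)) :=
  mkAct f6_1 (by decide +kernel) (by decide +kernel) (by decide +kernel)

/-- Layer 1 of factor 6. -/
abbrev G6_1 : Type := Multiplicative (ZMod 3 × ZMod 3) ⋊[φ6_1.comp (MonoidHom.id A6)] A6

/-- The projection of layer 1 of factor 6. -/
def π6_1 : G6_1 →* A6 := (MonoidHom.id A6).comp SemidirectProduct.rightHom

/-- Block 2 of factor 6. -/
def f6_2 (a : A6) (v : ZMod 3 × ZMod 3) : ZMod 3 × ZMod 3 := (fun v : ZMod 3 × ZMod 3 => (v.1, 2 * v.2))^[((Multiplicative.toAdd a).val % 2)] (v)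

/-- The action on block 2 of factor 6. -/
def φ6_2 : A6 →* MulAut (Multiplicative (ZMod 3 × ZMod 3)) :=
  mkAct f6_2 (by decide +kernel) (by decide +kernel) (by decide +kernel)

/-- Layer 2 of factor 6. -/
abbrev G6_2 : Type := Multiplicative (ZMod 3 × ZMod 3) ⋊[φ6_2.comp π6_1] G6_1

/-- The projection of layer 2 of factor 6. -/
def π6_2 : G6_2 →* A6 := π6_1.comp SemidirectProduct.rightHom

/-- Factor 6. -/
abbrev G6 : Type := G6_2

/-- The counts of factor 6. -/
def tbl6 : ℕ → ℕ := fun n => if n = 1 then 1 else if n = 2 then 10 else if n = 3 then 81 else if n = 4 then 64 else if n = 6 then 162 else if n = 7 then 1 else if n = 12 then 324 else if n = 14 then 10 else if n = 21 then 81 else if n = 28 then 64 else if n = 42 then 162 else if n = 84 then 324 else 0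

theorem eval6 : ∀ n ∈ Nat.divisors 84, (∑ a : A6, (if a ^ n = 1 then 1 else 0) * kcount (f6_1 a) n * kcount (f6_2 a) n) = tbl6 n := by
  decide +kernel

theorem cnt6 (n : ℕ) (hn : n ∈ Nat.divisors 84) : cnt G6 n = tbl6 n := by
  rw [cnt_eq_sum_prof π6_2, ← eval6 n hn]
  refine Finset.sum_congr rfl fun a _ => ?_

  refine (prof_layer _ _ _ _ _ n a).trans ?_

  congr 1
  refine (prof_layer _ _ _ _ _ n a).trans ?_

  congr 1
  exact prof_id n a

theorem card6 : Nat.card G6 = tbl6 84 := by
  simp only [card_semidirect, Nat.card_prod, Nat.card_zmod, Nat.card_congr Multiplicative.toAdd]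
  rfl

theorem solvable6 : Group.IsSolvable G6 := by
  haveI : Group.IsSolvable A6 := Group.isSolvable_of_comm fun a b => mul_comm a b

  haveI : Group.IsSolvable G6_1 := isSolvable_semidirect _

  exact isSolvable_semidirect _

/-- The acting group of factor 7. -/
abbrev A7 : Type := Multiplicative (ZMod 6)

/-- Block 1 of factor 7. -/
def f7_1 (_a : A7) (v : ZMod 2 × ZMod 2) : ZMod 2 × ZMod 2 := v

/-- The action on block 1 of factor 7. -/
def φ7_1 : A7 →* MulAut (Multiplicative (ZMod 2 × ZMod 2)) :=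
  mkAct f7_1 (by decide +kernel) (by decide +kernel) (by decide +kernel)

/-- Layer 1 of factor 7. -/
abbrev G7_1 : Type := Multiplicative (ZMod 2 × ZMod 2) ⋊[φ7_1.comp (MonoidHom.id A7)] A7

/-- The projection of layer 1 of factor 7. -/
def π7_1 : G7_1 →* A7 := (MonoidHom.id A7).comp SemidirectProduct.rightHom

/-- Block 2 of factor 7. -/
def f7_2 (a : A7) (v : ZMod 3) : ZMod 3 := (fun v : ZMod 3 => 2 * v)^[((Multiplicative.toAdd a).val % 2)] (v)

/-- The action on block 2 of factor 7. -/
def φ7_2 : A7 →* MulAut (Multiplicative (ZMod 3)) :=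
  mkAct f7_2 (by decide +kernel) (by decide +kernel) (by decide +kernel)

/-- Layer 2 of factor 7. -/
abbrev G7_2 : Type := Multiplicative (ZMod 3) ⋊[φ7_2.comp π7_1] G7_1

/-- The projection of layer 2 of factor 7. -/
def π7_2 : G7_2 →* A7 := π7_1.comp SemidirectProduct.rightHom

/-- Block 3 of factor 7. -/
def f7_3 (a : A7) (v : ZMod 7) : ZMod 7 := (fun v : ZMod 7 => 3 * v)^[(Multiplicative.toAdd a).val] (v)

/-- The action on block 3 of factor 7. -/
def φ7_3 : A7 →* MulAut (Multiplicative (ZMod 7)) :=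
  mkAct f7_3 (by decide +kernel) (by decide +kernel) (by decide +kernel)

/-- Layer 3 of factor 7. -/
abbrev G7_3 : Type := Multiplicative (ZMod 7) ⋊[φ7_3.comp π7_2] G7_2

/-- The projection of layer 3 of factor 7. -/
def π7_3 : G7_3 →* A7 := π7_2.comp SemidirectProduct.rightHom

/-- Factor 7. -/
abbrev G7 : Type := G7_3

/-- The counts of factor 7. -/
def tbl7 : ℕ → ℕ := fun n => if n = 1 then 1 else if n = 2 then 88 else if n = 3 then 45 else if n = 4 then 88 else if n = 6 then 432 else if n = 7 then 7 else if n = 12 then 432 else if n = 14 then 112 else if n = 21 then 63 else if n = 28 then 112 else if n = 42 then 504 else if n = 84 then 504 else 0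

theorem eval7 : ∀ n ∈ Nat.divisors 84, (∑ a : A7, (if a ^ n = 1 then 1 else 0) * kcount (f7_1 a) n * kcount (f7_2 a) n * kcount (f7_3 a) n) = tbl7 n := by
  decide +kernel

theorem cnt7 (n : ℕ) (hn : n ∈ Nat.divisors 84) : cnt G7 n = tbl7 n := by
  rw [cnt_eq_sum_prof π7_3, ← eval7 n hn]
  refine Finset.sum_congr rfl fun a _ => ?_

  refine (prof_layer _ _ _ _ _ n a).trans ?_

  congr 1
  refine (prof_layer _ _ _ _ _ n a).trans ?_

  congr 1
  refine (prof_layer _ _ _ _ _ n a).trans ?_

  congr 1
  exact prof_id n a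

theorem card7 : Nat.card G7 = tbl7 84 := by
  simp only [card_semidirect, Nat.card_prod, Nat.card_zmod, Nat.card_congr Multiplicative.toAdd]
  rfl

theorem solvable7 : Group.IsSolvable G7 := by
  haveI : Group.IsSolvable A7 := Group.isSolvable_of_comm fun a b => mul_comm a b

  haveI : Group.IsSolvable G7_1 := isSolvable_semidirect _

  haveI : Group.IsSolvable G7_2 := isSolvable_semidirect _

  exact isSolvable_semidirect _

end CfsgLib.HallGen.OrderTypeExample
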