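import Cfsg.Agent.Lib.HallGen.OrderType

/-!
Factors of the two groups with equal order types.
-/

set_option maxHeartbeats 2000000

open CfsgLib.HallGen.OrderType

namespace CfsgLib.HallGen.OrderTypeExample

/-- The acting group of factor 8. -/
abbrev A8 : Type := Multiplicative (ZMod 4) × Multiplicative (ZMod 2)

/-- Block 1 of factor 8. -/
def f8_1 (a : A8) (v : ZMod 3) : ZMod 3 := (fun v : ZMod 3 => 2 * v)^[(Multiplicative.toAdd a.2).val] (v)

/-- The action on block 1 of factor 8. -/
def φ8_1 : A8 →* MulAut (Multiplicative (ZMod 3)) :=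
  mkAct f8_1 (by decide +kernel) (by decide +kernel) (by decide +kernel)

/-- Layer 1 of factor 8. -/
abbrev G8_1 : Type := Multiplicative (ZMod 3) ⋊[φ8_1.comp (MonoidHom.id A8)] A8

/-- The projection of layer 1 of factor 8. -/
def π8_1 : G8_1 →* A8 := (MonoidHom.id A8).comp SemidirectProduct.rightHom

/-- Block 2 of factor 8. -/
def f8_2 (a : A8) (v : ZMod 7) : ZMod 7 := (fun v : ZMod 7 => 6 * v)^[(Multiplicative.toAdd a.2).val] (v)

/-- The action on block 2 of factor 8. -/
def φ8_2 : A8 →* MulAut (Multiplicative (ZMod 7)) :=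
  mkAct f8_2 (by decide +kernel) (by decide +kernel) (by decide +kernel)

/-- Layer 2 of factor 8. -/
abbrev G8_2 : Type := Multiplicative (ZMod 7) ⋊[φ8_2.comp π8_1] G8_1

/-- The projection of layer 2 of factor 8. -/
def π8_2 : G8_2 →* A8 := π8_1.comp SemidirectProduct.rightHom

/-- Block 3 of factor 8. -/
def f8_3 (a : A8) (v : ZMod 3) : ZMod 3 := (fun v : ZMod 3 => 2 * v)^[(Multiplicative.toAdd a.2).val] ((fun v : ZMod 3 => 2 * v)^[((Multiplicative.toAdd a.1).val % 2)] (v))

/-- The action on block 3 of factor 8. -/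
def φ8_3 : A8 →* MulAut (Multiplicative (ZMod 3)) :=
  mkAct f8_3 (by decide +kernel) (by decide +kernel) (by decide +kernel)

/-- Layer 3 of factor 8. -/
abbrev G8_3 : Type := Multiplicative (ZMod 3) ⋊[φ8_3.comp π8_2] G8_2

/-- The projection of layer 3 of factor 8. -/
def π8_3 : G8_3 →* A8 := π8_2.comp SemidirectProduct.rightHom

/-- Factor 8. -/
abbrev G8 : Type := G8_3

/-- The counts of factor 8. -/
def tbl8 : ℕ → ℕ := fun n => if n = 1 then 1 else if n = 2 then 128 else if n = 3 then 9 else if n = 4 then 176 else if n = 6 then 144 else if n = 7 then 7 else if n = 12 then 288 else if n = 14 then 140 else if n = 21 then 63 else if n = 28 then 224 else if n = 42 then 252 else if n = 84 then 504 else 0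

theorem eval8 : ∀ n ∈ Nat.divisors 84, (∑ a : A8, (if a ^ n = 1 then 1 else 0) * kcount (f8_1 a) n * kcount (f8_2 a) n * kcount (f8_3 a) n) = tbl8 n := by
  decide +kernel

theorem cnt8 (n : ℕ) (hn : n ∈ Nat.divisors 84) : cnt G8 n = tbl8 n := by
  rw [cnt_eq_sum_prof π8_3, ← eval8 n hn]
  refine Finset.sum_congr rfl fun a _ => ?_

  refine (prof_layer _ _ _ _ _ n a).trans ?_

  congr 1
  refine (prof_layer _ _ _ _ _ n a).trans ?_

  congr 1
  refine (prof_layer _ _ _ _ _ n a).trans ?_

  congr 1
  exact prof_id n a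

theorem card8 : Nat.card G8 = tbl8 84 := by
  simp only [card_semidirect, Nat.card_prod, Nat.card_zmod, Nat.card_congr Multiplicative.toAdd]
  rfl

theorem solvable8 : Group.IsSolvable G8 := by
  haveI : Group.IsSolvable A8 := Group.isSolvable_of_comm fun a b => mul_comm a b

  haveI : Group.IsSolvable G8_1 := isSolvable_semidirect _

  haveI : Group.IsSolvable G8_2 := isSolvable_semidirect _

  exact isSolvable_semidirect _

/-- The acting group of factor 9. -/
abbrev A9 : Type := Multiplicative (ZMod 4) × Multiplicative (ZMod 2)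

/-- Block 1 of factor 9. -/
def f9_1 (a : A9) (v : ZMod 3) : ZMod 3 := (fun v : ZMod 3 => 2 * v)^[(Multiplicative.toAdd a.2).val] (v)

/-- The action on block 1 of factor 9. -/
def φ9_1 : A9 →* MulAut (Multiplicative (ZMod 3)) :=
  mkAct f9_1 (by decide +kernel) (by decide +kernel) (by decide +kernel)

/-- Layer 1 of factor 9. -/
abbrev G9_1 : Type := Multiplicative (ZMod 3) ⋊[φ9_1.comp (MonoidHom.id A9)] A9

/-- The projection of layer 1 of factor 9. -/
def π9_1 : G9_1 →* A9 := (MonoidHom.id A9).comp SemidirectProduct.rightHom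

/-- Block 2 of factor 9. -/
def f9_2 (a : A9) (v : ZMod 3) : ZMod 3 := (fun v : ZMod 3 => 2 * v)^[(Multiplicative.toAdd a.2).val] (v)

/-- The action on block 2 of factor 9. -/
def φ9_2 : A9 →* MulAut (Multiplicative (ZMod 3)) :=
  mkAct f9_2 (by decide +kernel) (by decide +kernel) (by decide +kernel)

/-- Layer 2 of factor 9. -/
abbrev G9_2 : Type := Multiplicative (ZMod 3) ⋊[φ9_2.comp π9_1] G9_1

/-- The projection of layer 2 of factor 9. -/
def π9_2 : G9_2 →* A9 := π9_1.comp SemidirectProduct.rightHom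

/-- Block 3 of factor 9. -/
def f9_3 (a : A9) (v : ZMod 7) : ZMod 7 := (fun v : ZMod 7 => 6 * v)^[(Multiplicative.toAdd a.2).val] ((fun v : ZMod 7 => 6 * v)^[((Multiplicative.toAdd a.1).val % 2)] (v))

/-- The action on block 3 of factor 9. -/
def φ9_3 : A9 →* MulAut (Multiplicative (ZMod 7)) :=
  mkAct f9_3 (by decide +kernel) (by decide +kernel) (by decide +kernel)

/-- Layer 3 of factor 9. -/
abbrev G9_3 : Type := Multiplicative (ZMod 7) ⋊[φ9_3.comp π9_2] G9_2

/-- The projection of layer 3 of factor 9. -/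
def π9_3 : G9_3 →* A9 := π9_2.comp SemidirectProduct.rightHom

/-- Factor 9. -/
abbrev G9 : Type := G9_3

/-- The counts of factor 9. -/
def tbl9 : ℕ → ℕ := fun n => if n = 1 then 1 else if n = 2 then 128 else if n = 3 then 9 else if n = 4 then 160 else if n = 6 then 144 else if n = 7 then 7 else if n = 12 then 288 else if n = 14 then 140 else if n = 21 then 63 else if n = 28 then 280 else if n = 42 then 252 else if n = 84 then 504 else 0

theorem eval9 : ∀ n ∈ Nat.divisors 84, (∑ a : A9, (if a ^ n = 1 then 1 else 0) * kcount (f9_1 a) n * kcount (f9_2 a) n * kcount (f9_3 a) n) = tbl9 n := by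
  decide +kernel

theorem cnt9 (n : ℕ) (hn : n ∈ Nat.divisors 84) : cnt G9 n = tbl9 n := by
  rw [cnt_eq_sum_prof π9_3, ← eval9 n hn]
  refine Finset.sum_congr rfl fun a _ => ?_

  refine (prof_layer _ _ _ _ _ n a).trans ?_

  congr 1
  refine (prof_layer _ _ _ _ _ n a).trans ?_

  congr 1
  refine (prof_layer _ _ _ _ _ n a).trans ?_

  congr 1
  exact prof_id n a

theorem card9 : Nat.card G9 = tbl9 84 := by
  simp only [card_semidirect, Nat.card_prod, Nat.card_zmod, Nat.card_congr Multiplicative.toAdd]
  rfl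

theorem solvable9 : Group.IsSolvable G9 := by
  haveI : Group.IsSolvable A9 := Group.isSolvable_of_comm fun a b => mul_comm a b

  haveI : Group.IsSolvable G9_1 := isSolvable_semidirect _

  haveI : Group.IsSolvable G9_2 := isSolvable_semidirect _

  exact isSolvable_semidirect _

/-- The acting group of factor 10. -/
abbrev A10 : Type := Multiplicative (ZMod 2)

/-- Block 1 of factor 10. -/
def f10_1 (a : A10) (v : ZMod 2 × ZMod 2) : ZMod 2 × ZMod 2 := (fun v : ZMod 2 × ZMod 2 => (v.2, v.1))^[(Multiplicative.toAdd a).val] (v)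

/-- The action on block 1 of factor 10. -/
def φ10_1 : A10 →* MulAut (Multiplicative (ZMod 2 × ZMod 2)) :=
  mkAct f10_1 (by decide +kernel) (by decide +kernel) (by decide +kernel)

/-- Layer 1 of factor 10. -/
abbrev G10_1 : Type := Multiplicative (ZMod 2 × ZMod 2) ⋊[φ10_1.comp (MonoidHom.id A10)] A10

/-- The projection of layer 1 of factor 10. -/
def π10_1 : G10_1 →* A10 := (MonoidHom.id A10).comp SemidirectProduct.rightHom

/-- Block 2 of factor 10. -/
def f10_2 (_a : A10) (v : ZMod 2 × ZMod 2) : ZMod 2 × ZMod 2 := v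

/-- The action on block 2 of factor 10. -/
def φ10_2 : A10 →* MulAut (Multiplicative (ZMod 2 × ZMod 2)) :=
  mkAct f10_2 (by decide +kernel) (by decide +kernel) (by decide +kernel)

/-- Layer 2 of factor 10. -/
abbrev G10_2 : Type := Multiplicative (ZMod 2 × ZMod 2) ⋊[φ10_2.comp π10_1] G10_1

/-- The projection of layer 2 of factor 10. -/
def π10_2 : G10_2 →* A10 := π10_1.comp SemidirectProduct.rightHom

/-- Block 3 of factor 10. -/
def f10_3 (_a : A10) (v : ZMod 2 × ZMod 2) : ZMod 2 × ZMod 2 := v

/-- The action on block 3 of factor 10. -/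
def φ10_3 : A10 →* MulAut (Multiplicative (ZMod 2 × ZMod 2)) :=
  mkAct f10_3 (by decide +kernel) (by decide +kernel) (by decide +kernel)

/-- Layer 3 of factor 10. -/
abbrev G10_3 : Type := Multiplicative (ZMod 2 × ZMod 2) ⋊[φ10_3.comp π10_2] G10_2

/-- The projection of layer 3 of factor 10. -/
def π10_3 : G10_3 →* A10 := π10_2.comp SemidirectProduct.rightHom

/-- Block 4 of factor 10. -/
def f10_4 (_a : A10) (v : ZMod 2 × ZMod 2) : ZMod 2 × ZMod 2 := v

/-- The action on block 4 of factor 10. -/
def φ10_4 : A10 →* MulAut (Multiplicative (ZMod 2 × ZMod 2)) :=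
  mkAct f10_4 (by decide +kernel) (by decide +kernel) (by decide +kernel)

/-- Layer 4 of factor 10. -/
abbrev G10_4 : Type := Multiplicative (ZMod 2 × ZMod 2) ⋊[φ10_4.comp π10_3] G10_3

/-- The projection of layer 4 of factor 10. -/
def π10_4 : G10_4 →* A10 := π10_3.comp SemidirectProduct.rightHom

/-- Factor 10. -/
abbrev G10 : Type := G10_4

/-- The counts of factor 10. -/
def tbl10 : ℕ → ℕ := fun n => if n = 1 then 1 else if n = 2 then 384 else if n = 3 then 1 else if n = 4 then 512 else if n = 6 then 384 else if n = 7 then 1 else if n = 12 then 512 else if n = 14 then 384 else if n = 21 then 1 else if n = 28 then 512 else if n = 42 then 384 else if n = 84 then 512 else 0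

theorem eval10 : ∀ n ∈ Nat.divisors 84, (∑ a : A10, (if a ^ n = 1 then 1 else 0) * kcount (f10_1 a) n * kcount (f10_2 a) n * kcount (f10_3 a) n * kcount (f10_4 a) n) = tbl10 n := by
  decide +kernel

theorem cnt10 (n : ℕ) (hn : n ∈ Nat.divisors 84) : cnt G10 n = tbl10 n := by
  rw [cnt_eq_sum_prof π10_4, ← eval10 n hn]
  refine Finset.sum_congr rfl fun a _ => ?_

  refine (prof_layer _ _ _ _ _ n a).trans ?_

  congr 1
  refine (prof_layer _ _ _ _ _ n a).trans ?_

  congr 1
  refine (prof_layer _ _ _ _ _ n a).trans ?_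

  congr 1
  refine (prof_layer _ _ _ _ _ n a).trans ?_

  congr 1
  exact prof_id n a

theorem card10 : Nat.card G10 = tbl10 84 := by
  simp only [card_semidirect, Nat.card_prod, Nat.card_zmod, Nat.card_congr Multiplicative.toAdd]
  rfl

theorem solvable10 : Group.IsSolvable G10 := by
  haveI : Group.IsSolvable A10 := Group.isSolvable_of_comm fun a b => mul_comm a b

  haveI : Group.IsSolvable G10_1 := isSolvable_semidirect _

  haveI : Group.IsSolvable G10_2 := isSolvable_semidirect _

  haveI : Group.IsSolvable G10_3 := isSolvable_semidirect _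

  exact isSolvable_semidirect _

/-- The acting group of factor 11. -/
abbrev A11 : Type := Multiplicative (ZMod 4) × Multiplicative (ZMod 2)

/-- Block 1 of factor 11. -/
def f11_1 (a : A11) (v : ZMod 2 × ZMod 2 × ZMod 2) : ZMod 2 × ZMod 2 × ZMod 2 := (fun v : ZMod 2 × ZMod 2 × ZMod 2 => (v.2.1, v.1, v.2.1 + v.2.2))^[(Multiplicative.toAdd a.1).val] (v)

/-- The action on block 1 of factor 11. -/
def φ11_1 : A11 →* MulAut (Multiplicative (ZMod 2 × ZMod 2 × ZMod 2)) :=
  mkAct f11_1 (by decide +kernel) (by decide +kernel) (by decide +kernel)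

/-- Layer 1 of factor 11. -/
abbrev G11_1 : Type := Multiplicative (ZMod 2 × ZMod 2 × ZMod 2) ⋊[φ11_1.comp (MonoidHom.id A11)] A11

/-- The projection of layer 1 of factor 11. -/
def π11_1 : G11_1 →* A11 := (MonoidHom.id A11).comp SemidirectProduct.rightHom

/-- Block 2 of factor 11. -/
def f11_2 (a : A11) (v : ZMod 3 × ZMod 3) : ZMod 3 × ZMod 3 := (fun v : ZMod 3 × ZMod 3 => (v.2, v.1))^[(Multiplicative.toAdd a.2).val] ((fun v : ZMod 3 × ZMod 3 => (v.2, v.1))^[((Multiplicative.toAdd a.1).val % 2)] (v))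

/-- The action on block 2 of factor 11. -/
def φ11_2 : A11 →* MulAut (Multiplicative (ZMod 3 × ZMod 3)) :=
  mkAct f11_2 (by decide +kernel) (by decide +kernel) (by decide +kernel)

/-- Layer 2 of factor 11. -/
abbrev G11_2 : Type := Multiplicative (ZMod 3 × ZMod 3) ⋊[φ11_2.comp π11_1] G11_1

/-- The projection of layer 2 of factor 11. -/
def π11_2 : G11_2 →* A11 := π11_1.comp SemidirectProduct.rightHom

/-- Factor 11. -/
abbrev G11 : Type := G11_2

/-- The counts of factor 11. -/
def tbl11 : ℕ → ℕ := fun n => if n = 1 then 1 else if n = 2 then 48 else if n = 3 then 9 else if n = 4 then 128 else if n = 6 then 216 else if n = 7 then 1 else if n = 12 then 576 else if n = 14 then 48 else if n = 21 then 9 else if n = 28 then 128 else if n = 42 then 216 else if n = 84 then 576 else 0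

theorem eval11 : ∀ n ∈ Nat.divisors 84, (∑ a : A11, (if a ^ n = 1 then 1 else 0) * kcount (f11_1 a) n * kcount (f11_2 a) n) = tbl11 n := by
  decide +kernel

theorem cnt11 (n : ℕ) (hn : n ∈ Nat.divisors 84) : cnt G11 n = tbl11 n := by
  rw [cnt_eq_sum_prof π11_2, ← eval11 n hn]
  refine Finset.sum_congr rfl fun a _ => ?_

  refine (prof_layer _ _ _ _ _ n a).trans ?_

  congr 1
  refine (prof_layer _ _ _ _ _ n a).trans ?_

  congr 1
  exact prof_id n a

theorem card11 : Nat.card G11 = tbl11 84 := by
  simp only [card_semidirect, Nat.card_prod, Nat.card_zmod, Nat.card_congr Multiplicative.toAdd]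
  rfl

theorem solvable11 : Group.IsSolvable G11 := by
  haveI : Group.IsSolvable A11 := Group.isSolvable_of_comm fun a b => mul_comm a b

  haveI : Group.IsSolvable G11_1 := isSolvable_semidirect _

  exact isSolvable_semidirect _

/-- The acting group of factor 12. -/
abbrev A12 : Type := Multiplicative (ZMod 84)

/-- Block 1 of factor 12. -/
def f12_1 (a : A12) (v : ZMod 7) : ZMod 7 := (fun v : ZMod 7 => 3 * v)^[((Multiplicative.toAdd a).val % 6)] (v)

/-- The action on block 1 of factor 12. -/
def φ12_1 : A12 →* MulAut (Multiplicative (ZMod 7)) :=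
  mkAct f12_1 (by decide +kernel) (by decide +kernel) (by decide +kernel)

/-- Layer 1 of factor 12. -/
abbrev G12_1 : Type := Multiplicative (ZMod 7) ⋊[φ12_1.comp (MonoidHom.id A12)] A12

/-- The projection of layer 1 of factor 12. -/
def π12_1 : G12_1 →* A12 := (MonoidHom.id A12).comp SemidirectProduct.rightHom

/-- Factor 12. -/
abbrev G12 : Type := G12_1

/-- The counts of factor 12. -/
def tbl12 : ℕ → ℕ := fun n => if n = 1 then 1 else if n = 2 then 2 else if n = 3 then 15 else if n = 4 then 16 else if n = 6 then 30 else if n = 7 then 49 else if n = 12 then 72 else if n = 14 then 98 else if n = 21 then 147 else if n = 28 then 196 else if n = 42 then 294 else if n = 84 then 588 else 0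

theorem eval12 : ∀ n ∈ Nat.divisors 84, (∑ a : A12, (if a ^ n = 1 then 1 else 0) * kcount (f12_1 a) n) = tbl12 n := by
  decide +kernel

theorem cnt12 (n : ℕ) (hn : n ∈ Nat.divisors 84) : cnt G12 n = tbl12 n := by
  rw [cnt_eq_sum_prof π12_1, ← eval12 n hn]
  refine Finset.sum_congr rfl fun a _ => ?_

  refine (prof_layer _ _ _ _ _ n a).trans ?_

  congr 1
  exact prof_id n a

theorem card12 : Nat.card G12 = tbl12 84 := by
  simp only [card_semidirect, Nat.card_prod, Nat.card_zmod, Nat.card_congr Multiplicative.toAdd]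
  rfl

theorem solvable12 : Group.IsSolvable G12 := by
  haveI : Group.IsSolvable A12 := Group.isSolvable_of_comm fun a b => mul_comm a b

  exact isSolvable_semidirect _

/-- The acting group of factor 13. -/
abbrev A13 : Type := Multiplicative (ZMod 6)

/-- Block 1 of factor 13. -/
def f13_1 (a : A13) (v : ZMod 2 × ZMod 2 × ZMod 2 × ZMod 2) : ZMod 2 × ZMod 2 × ZMod 2 × ZMod 2 := (fun v : ZMod 2 × ZMod 2 × ZMod 2 × ZMod 2 => (v.2.2.1, v.2.1 + v.2.2.1, v.2.1 + v.2.2.1 + v.2.2.2, v.1 + v.2.2.1))^[(Multiplicative.toAdd a).val] (v)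

/-- The action on block 1 of factor 13. -/
def φ13_1 : A13 →* MulAut (Multiplicative (ZMod 2 × ZMod 2 × ZMod 2 × ZMod 2)) :=
  mkAct f13_1 (by decide +kernel) (by decide +kernel) (by decide +kernel)

/-- Layer 1 of factor 13. -/
abbrev G13_1 : Type := Multiplicative (ZMod 2 × ZMod 2 × ZMod 2 × ZMod 2) ⋊[φ13_1.comp (MonoidHom.id A13)] A13

/-- The projection of layer 1 of factor 13. -/
def π13_1 : G13_1 →* A13 := (MonoidHom.id A13).comp SemidirectProduct.rightHom

/-- Block 2 of factor 13. -/
def f13_2 (a : A13) (v : ZMod 7) : ZMod 7 := (fun v : ZMod 7 => 2 * v)^[((Multiplicative.toAdd a).val % 3)] (v)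

/-- The action on block 2 of factor 13. -/
def φ13_2 : A13 →* MulAut (Multiplicative (ZMod 7)) :=
  mkAct f13_2 (by decide +kernel) (by decide +kernel) (by decide +kernel)

/-- Layer 2 of factor 13. -/
abbrev G13_2 : Type := Multiplicative (ZMod 7) ⋊[φ13_2.comp π13_1] G13_1

/-- The projection of layer 2 of factor 13. -/
def π13_2 : G13_2 →* A13 := π13_1.comp SemidirectProduct.rightHom

/-- Factor 13. -/
abbrev G13 : Type := G13_2

/-- The counts of factor 13. -/
def tbl13 : ℕ → ℕ := fun n => if n = 1 then 1 else if n = 2 then 20 else if n = 3 then 225 else if n = 4 then 32 else if n = 6 then 468 else if n = 7 then 7 else if n = 12 then 480 else if n = 14 then 140 else if n = 21 then 231 else if n = 28 then 224 else if n = 42 then 588 else if n = 84 then 672 else 0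

theorem eval13 : ∀ n ∈ Nat.divisors 84, (∑ a : A13, (if a ^ n = 1 then 1 else 0) * kcount (f13_1 a) n * kcount (f13_2 a) n) = tbl13 n := by
  decide +kernel

theorem cnt13 (n : ℕ) (hn : n ∈ Nat.divisors 84) : cnt G13 n = tbl13 n := by
  rw [cnt_eq_sum_prof π13_2, ← eval13 n hn]
  refine Finset.sum_congr rfl fun a _ => ?_

  refine (prof_layer _ _ _ _ _ n a).trans ?_

  congr 1
  refine (prof_layer _ _ _ _ _ n a).trans ?_

  congr 1
  exact prof_id n a

theorem card13 : Nat.card G13 = tbl13 84 := by
  simp only [card_semidirect, Nat.card_prod, Nat.card_zmod, Nat.card_congr Multiplicative.toAdd]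
  rfl

theorem solvable13 : Group.IsSolvable G13 := by
  haveI : Group.IsSolvable A13 := Group.isSolvable_of_comm fun a b => mul_comm a b

  haveI : Group.IsSolvable G13_1 := isSolvable_semidirect _

  exact isSolvable_semidirect _

/-- The acting group of factor 14. -/
abbrev A14 : Type := Multiplicative (ZMod 6)

/-- Block 1 of factor 14. -/
def f14_1 (a : A14) (v : ZMod 2 × ZMod 2) : ZMod 2 × ZMod 2 := (fun v : ZMod 2 × ZMod 2 => (v.2, v.1 + v.2))^[((Multiplicative.toAdd a).val % 3)] (v)

/-- The action on block 1 of factor 14. -/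
def φ14_1 : A14 →* MulAut (Multiplicative (ZMod 2 × ZMod 2)) :=
  mkAct f14_1 (by decide +kernel) (by decide +kernel) (by decide +kernel)

/-- Layer 1 of factor 14. -/
abbrev G14_1 : Type := Multiplicative (ZMod 2 × ZMod 2) ⋊[φ14_1.comp (MonoidHom.id A14)] A14

/-- The projection of layer 1 of factor 14. -/
def π14_1 : G14_1 →* A14 := (MonoidHom.id A14).comp SemidirectProduct.rightHom

/-- Block 2 of factor 14. -/
def f14_2 (a : A14) (v : ZMod 2 × ZMod 2) : ZMod 2 × ZMod 2 := (fun v : ZMod 2 × ZMod 2 => (v.2, v.1 + v.2))^[((Multiplicative.toAdd a).val % 3)] (v)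

/-- The action on block 2 of factor 14. -/
def φ14_2 : A14 →* MulAut (Multiplicative (ZMod 2 × ZMod 2)) :=
  mkAct f14_2 (by decide +kernel) (by decide +kernel) (by decide +kernel)

/-- Layer 2 of factor 14. -/
abbrev G14_2 : Type := Multiplicative (ZMod 2 × ZMod 2) ⋊[φ14_2.comp π14_1] G14_1

/-- The projection of layer 2 of factor 14. -/
def π14_2 : G14_2 →* A14 := π14_1.comp SemidirectProduct.rightHom

/-- Block 3 of factor 14. -/
def f14_3 (a : A14) (v : ZMod 7) : ZMod 7 := (fun v : ZMod 7 => 2 * v)^[((Multiplicative.toAdd a).val % 3)] (v)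

/-- The action on block 3 of factor 14. -/
def φ14_3 : A14 →* MulAut (Multiplicative (ZMod 7)) :=
  mkAct f14_3 (by decide +kernel) (by decide +kernel) (by decide +kernel)

/-- Layer 3 of factor 14. -/
abbrev G14_3 : Type := Multiplicative (ZMod 7) ⋊[φ14_3.comp π14_2] G14_2

/-- The projection of layer 3 of factor 14. -/
def π14_3 : G14_3 →* A14 := π14_2.comp SemidirectProduct.rightHom

/-- Factor 14. -/
abbrev G14 : Type := G14_3

/-- The counts of factor 14. -/
def tbl14 : ℕ → ℕ := fun n => if n = 1 then 1 else if n = 2 then 32 else if n = 3 then 225 else if n = 4 then 32 else if n = 6 then 480 else if n = 7 then 7 else if n = 12 then 480 else if n = 14 then 224 else if n = 21 then 231 else if n = 28 then 224 else if n = 42 then 672 else if n = 84 then 672 else 0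

theorem eval14 : ∀ n ∈ Nat.divisors 84, (∑ a : A14, (if a ^ n = 1 then 1 else 0) * kcount (f14_1 a) n * kcount (f14_2 a) n * kcount (f14_3 a) n) = tbl14 n := by
  decide +kernel

theorem cnt14 (n : ℕ) (hn : n ∈ Nat.divisors 84) : cnt G14 n = tbl14 n := by
  rw [cnt_eq_sum_prof π14_3, ← eval14 n hn]
  refine Finset.sum_congr rfl fun a _ => ?_

  refine (prof_layer _ _ _ _ _ n a).trans ?_

  congr 1
  refine (prof_layer _ _ _ _ _ n a).trans ?_

  congr 1
  refine (prof_layer _ _ _ _ _ n a).trans ?_

  congr 1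
  exact prof_id n a

theorem card14 : Nat.card G14 = tbl14 84 := by
  simp only [card_semidirect, Nat.card_prod, Nat.card_zmod, Nat.card_congr Multiplicative.toAdd]
  rfl

theorem solvable14 : Group.IsSolvable G14 := by
  haveI : Group.IsSolvable A14 := Group.isSolvable_of_comm fun a b => mul_comm a b

  haveI : Group.IsSolvable G14_1 := isSolvable_semidirect _

  haveI : Group.IsSolvable G14_2 := isSolvable_semidirect _

  exact isSolvable_semidirect _

/-- The acting group of factor 15. -/
abbrev A15 : Type := Multiplicative (ZMod 6)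

/-- Block 1 of factor 15. -/
def f15_1 (a : A15) (v : ZMod 2 × ZMod 2 × ZMod 2 × ZMod 2) : ZMod 2 × ZMod 2 × ZMod 2 × ZMod 2 := (fun v : ZMod 2 × ZMod 2 × ZMod 2 × ZMod 2 => (v.2.2.2, v.1 + v.2.2.1 + v.2.2.2, v.1 + v.2.1 + v.2.2.1, v.1 + v.2.2.2))^[(Multiplicative.toAdd a).val] (v)

/-- The action on block 1 of factor 15. -/
def φ15_1 : A15 →* MulAut (Multiplicative (ZMod 2 × ZMod 2 × ZMod 2 × ZMod 2)) :=
  mkAct f15_1 (by decide +kernel) (by decide +kernel) (by decide +kernel)

/-- Layer 1 of factor 15. -/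
abbrev G15_1 : Type := Multiplicative (ZMod 2 × ZMod 2 × ZMod 2 × ZMod 2) ⋊[φ15_1.comp (MonoidHom.id A15)] A15

/-- The projection of layer 1 of factor 15. -/
def π15_1 : G15_1 →* A15 := (MonoidHom.id A15).comp SemidirectProduct.rightHom

/-- Block 2 of factor 15. -/
def f15_2 (a : A15) (v : ZMod 7) : ZMod 7 := (fun v : ZMod 7 => 6 * v)^[((Multiplicative.toAdd a).val % 2)] (v)

/-- The action on block 2 of factor 15. -/
def φ15_2 : A15 →* MulAut (Multiplicative (ZMod 7)) :=
  mkAct f15_2 (by decide +kernel) (by decide +kernel) (by decide +kernel)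

/-- Layer 2 of factor 15. -/
abbrev G15_2 : Type := Multiplicative (ZMod 7) ⋊[φ15_2.comp π15_1] G15_1

/-- The projection of layer 2 of factor 15. -/
def π15_2 : G15_2 →* A15 := π15_1.comp SemidirectProduct.rightHom

/-- Factor 15. -/
abbrev G15 : Type := G15_2

/-- The counts of factor 15. -/
def tbl15 : ℕ → ℕ := fun n => if n = 1 then 1 else if n = 2 then 44 else if n = 3 then 33 else if n = 4 then 128 else if n = 6 then 300 else if n = 7 then 7 else if n = 12 then 384 else if n = 14 then 140 else if n = 21 then 231 else if n = 28 then 224 else if n = 42 then 588 else if n = 84 then 672 else 0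

theorem eval15 : ∀ n ∈ Nat.divisors 84, (∑ a : A15, (if a ^ n = 1 then 1 else 0) * kcount (f15_1 a) n * kcount (f15_2 a) n) = tbl15 n := by
  decide +kernel

theorem cnt15 (n : ℕ) (hn : n ∈ Nat.divisors 84) : cnt G15 n = tbl15 n := by
  rw [cnt_eq_sum_prof π15_2, ← eval15 n hn]
  refine Finset.sum_congr rfl fun a _ => ?_

  refine (prof_layer _ _ _ _ _ n a).trans ?_

  congr 1
  refine (prof_layer _ _ _ _ _ n a).trans ?_

  congr 1
  exact prof_id n a

theorem card15 : Nat.card G15 = tbl15 84 := by
  simp only [card_semidirect, Nat.card_prod, Nat.card_zmod, Nat.card_congr Multiplicative.toAdd]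
  rfl

theorem solvable15 : Group.IsSolvable G15 := by
  haveI : Group.IsSolvable A15 := Group.isSolvable_of_comm fun a b => mul_comm a b

  haveI : Group.IsSolvable G15_1 := isSolvable_semidirect _

  exact isSolvable_semidirect _

end CfsgLib.HallGen.OrderTypeExample
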