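import Cfsg.Agent.Lib.HallGen.OrderType

/-!
Factors of the two groups with equal order types.
-/

set_option maxHeartbeats 2000000

open CfsgLib.HallGen.OrderType

namespace CfsgLib.HallGen.OrderTypeExample

/-- The acting group of factor 16. -/
abbrev A16 : Type := Multiplicative (ZMod 2) × Multiplicative (ZMod 2)

/-- Block 1 of factor 16. -/
def f16_1 (a : A16) (v : ZMod 3) : ZMod 3 := (fun v : ZMod 3 => 2 * v)^[(Multiplicative.toAdd a.2).val] (v)

/-- The action on block 1 of factor 16. -/
def φ16_1 : A16 →* MulAut (Multiplicative (ZMod 3)) :=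
  mkAct f16_1 (by decide +kernel) (by decide +kernel) (by decide +kernel)

/-- Layer 1 of factor 16. -/
abbrev G16_1 : Type := Multiplicative (ZMod 3) ⋊[φ16_1.comp (MonoidHom.id A16)] A16

/-- The projection of layer 1 of factor 16. -/
def π16_1 : G16_1 →* A16 := (MonoidHom.id A16).comp SemidirectProduct.rightHom

/-- Block 2 of factor 16. -/
def f16_2 (a : A16) (v : ZMod 3) : ZMod 3 := (fun v : ZMod 3 => 2 * v)^[(Multiplicative.toAdd a.1).val] (v)

/-- The action on block 2 of factor 16. -/
def φ16_2 : A16 →* MulAut (Multiplicative (ZMod 3)) :=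
  mkAct f16_2 (by decide +kernel) (by decide +kernel) (by decide +kernel)

/-- Layer 2 of factor 16. -/
abbrev G16_2 : Type := Multiplicative (ZMod 3) ⋊[φ16_2.comp π16_1] G16_1

/-- The projection of layer 2 of factor 16. -/
def π16_2 : G16_2 →* A16 := π16_1.comp SemidirectProduct.rightHom

/-- Block 3 of factor 16. -/
def f16_3 (a : A16) (v : ZMod 3) : ZMod 3 := (fun v : ZMod 3 => 2 * v)^[(Multiplicative.toAdd a.2).val] (v)

/-- The action on block 3 of factor 16. -/
def φ16_3 : A16 →* MulAut (Multiplicative (ZMod 3)) :=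
  mkAct f16_3 (by decide +kernel) (by decide +kernel) (by decide +kernel)

/-- Layer 3 of factor 16. -/
abbrev G16_3 : Type := Multiplicative (ZMod 3) ⋊[φ16_3.comp π16_2] G16_2

/-- The projection of layer 3 of factor 16. -/
def π16_3 : G16_3 →* A16 := π16_2.comp SemidirectProduct.rightHom

/-- Block 4 of factor 16. -/
def f16_4 (a : A16) (v : ZMod 7) : ZMod 7 := (fun v : ZMod 7 => 6 * v)^[(Multiplicative.toAdd a.2).val] ((fun v : ZMod 7 => 6 * v)^[(Multiplicative.toAdd a.1).val] (v))

/-- The action on block 4 of factor 16. -/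
def φ16_4 : A16 →* MulAut (Multiplicative (ZMod 7)) :=
  mkAct f16_4 (by decide +kernel) (by decide +kernel) (by decide +kernel)

/-- Layer 4 of factor 16. -/
abbrev G16_4 : Type := Multiplicative (ZMod 7) ⋊[φ16_4.comp π16_3] G16_3

/-- The projection of layer 4 of factor 16. -/
def π16_4 : G16_4 →* A16 := π16_3.comp SemidirectProduct.rightHom

/-- Factor 16. -/
abbrev G16 : Type := G16_4

/-- The counts of factor 16. -/
def tbl16 : ℕ → ℕ := fun n => if n = 1 then 1 else if n = 2 then 112 else if n = 3 then 27 else if n = 4 then 112 else if n = 6 then 432 else if n = 7 then 7 else if n = 12 then 432 else if n = 14 then 280 else if n = 21 then 189 else if n = 28 then 280 else if n = 42 then 756 else if n = 84 then 756 else 0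

theorem eval16 : ∀ n ∈ Nat.divisors 84, (∑ a : A16, (if a ^ n = 1 then 1 else 0) * kcount (f16_1 a) n * kcount (f16_2 a) n * kcount (f16_3 a) n * kcount (f16_4 a) n) = tbl16 n := by
  decide +kernel

theorem cnt16 (n : ℕ) (hn : n ∈ Nat.divisors 84) : cnt G16 n = tbl16 n := by
  rw [cnt_eq_sum_prof π16_4, ← eval16 n hn]
  refine Finset.sum_congr rfl fun a _ => ?_

  refine (prof_layer _ _ _ _ _ n a).trans ?_

  congr 1
  refine (prof_layer _ _ _ _ _ n a).trans ?_

  congr 1
  refine (prof_layer _ _ _ _ _ n a).trans ?_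

  congr 1
  refine (prof_layer _ _ _ _ _ n a).trans ?_

  congr 1
  exact prof_id n a

theorem card16 : Nat.card G16 = tbl16 84 := by
  simp only [card_semidirect, Nat.card_prod, Nat.card_zmod, Nat.card_congr Multiplicative.toAdd]
  rfl

theorem solvable16 : Group.IsSolvable G16 := by
  haveI : Group.IsSolvable A16 := Group.isSolvable_of_comm fun a b => mul_comm a b

  haveI : Group.IsSolvable G16_1 := isSolvable_semidirect _

  haveI : Group.IsSolvable G16_2 := isSolvable_semidirect _

  haveI : Group.IsSolvable G16_3 := isSolvable_semidirect _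

  exact isSolvable_semidirect _

/-- The acting group of factor 17. -/
abbrev A17 : Type := Multiplicative (ZMod 3)

/-- Block 1 of factor 17. -/
def f17_1 (a : A17) (v : ZMod 2 × ZMod 2) : ZMod 2 × ZMod 2 := (fun v : ZMod 2 × ZMod 2 => (v.2, v.1 + v.2))^[(Multiplicative.toAdd a).val] (v)

/-- The action on block 1 of factor 17. -/
def φ17_1 : A17 →* MulAut (Multiplicative (ZMod 2 × ZMod 2)) :=
  mkAct f17_1 (by decide +kernel) (by decide +kernel) (by decide +kernel)

/-- Layer 1 of factor 17. -/
abbrev G17_1 : Type := Multiplicative (ZMod 2 × ZMod 2) ⋊[φ17_1.comp (MonoidHom.id A17)] A17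

/-- The projection of layer 1 of factor 17. -/
def π17_1 : G17_1 →* A17 := (MonoidHom.id A17).comp SemidirectProduct.rightHom

/-- Block 2 of factor 17. -/
def f17_2 (a : A17) (v : ZMod 2 × ZMod 2) : ZMod 2 × ZMod 2 := (fun v : ZMod 2 × ZMod 2 => (v.2, v.1 + v.2))^[(Multiplicative.toAdd a).val] (v)

/-- The action on block 2 of factor 17. -/
def φ17_2 : A17 →* MulAut (Multiplicative (ZMod 2 × ZMod 2)) :=
  mkAct f17_2 (by decide +kernel) (by decide +kernel) (by decide +kernel)

/-- Layer 2 of factor 17. -/
abbrev G17_2 : Type := Multiplicative (ZMod 2 × ZMod 2) ⋊[φ17_2.comp π17_1] G17_1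

/-- The projection of layer 2 of factor 17. -/
def π17_2 : G17_2 →* A17 := π17_1.comp SemidirectProduct.rightHom

/-- Block 3 of factor 17. -/
def f17_3 (_a : A17) (v : ZMod 3) : ZMod 3 := v

/-- The action on block 3 of factor 17. -/
def φ17_3 : A17 →* MulAut (Multiplicative (ZMod 3)) :=
  mkAct f17_3 (by decide +kernel) (by decide +kernel) (by decide +kernel)

/-- Layer 3 of factor 17. -/
abbrev G17_3 : Type := Multiplicative (ZMod 3) ⋊[φ17_3.comp π17_2] G17_2

/-- The projection of layer 3 of factor 17. -/
def π17_3 : G17_3 →* A17 := π17_2.comp SemidirectProduct.rightHom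

/-- Block 4 of factor 17. -/
def f17_4 (_a : A17) (v : ZMod 7) : ZMod 7 := v

/-- The action on block 4 of factor 17. -/
def φ17_4 : A17 →* MulAut (Multiplicative (ZMod 7)) :=
  mkAct f17_4 (by decide +kernel) (by decide +kernel) (by decide +kernel)

/-- Layer 4 of factor 17. -/
abbrev G17_4 : Type := Multiplicative (ZMod 7) ⋊[φ17_4.comp π17_3] G17_3

/-- The projection of layer 4 of factor 17. -/
def π17_4 : G17_4 →* A17 := π17_3.comp SemidirectProduct.rightHom

/-- Factor 17. -/
abbrev G17 : Type := G17_4

/-- The counts of factor 17. -/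
def tbl17 : ℕ → ℕ := fun n => if n = 1 then 1 else if n = 2 then 16 else if n = 3 then 99 else if n = 4 then 16 else if n = 6 then 144 else if n = 7 then 7 else if n = 12 then 144 else if n = 14 then 112 else if n = 21 then 693 else if n = 28 then 112 else if n = 42 then 1008 else if n = 84 then 1008 else 0

theorem eval17 : ∀ n ∈ Nat.divisors 84, (∑ a : A17, (if a ^ n = 1 then 1 else 0) * kcount (f17_1 a) n * kcount (f17_2 a) n * kcount (f17_3 a) n * kcount (f17_4 a) n) = tbl17 n := by
  decide +kernel

theorem cnt17 (n : ℕ) (hn : n ∈ Nat.divisors 84) : cnt G17 n = tbl17 n := by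
  rw [cnt_eq_sum_prof π17_4, ← eval17 n hn]
  refine Finset.sum_congr rfl fun a _ => ?_

  refine (prof_layer _ _ _ _ _ n a).trans ?_

  congr 1
  refine (prof_layer _ _ _ _ _ n a).trans ?_

  congr 1
  refine (prof_layer _ _ _ _ _ n a).trans ?_

  congr 1
  refine (prof_layer _ _ _ _ _ n a).trans ?_

  congr 1
  exact prof_id n a

theorem card17 : Nat.card G17 = tbl17 84 := by
  simp only [card_semidirect, Nat.card_prod, Nat.card_zmod, Nat.card_congr Multiplicative.toAdd]
  rfl

theorem solvable17 : Group.IsSolvable G17 := by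
  haveI : Group.IsSolvable A17 := Group.isSolvable_of_comm fun a b => mul_comm a b

  haveI : Group.IsSolvable G17_1 := isSolvable_semidirect _

  haveI : Group.IsSolvable G17_2 := isSolvable_semidirect _

  haveI : Group.IsSolvable G17_3 := isSolvable_semidirect _

  exact isSolvable_semidirect _

/-- The acting group of factor 18. -/
abbrev A18 : Type := Multiplicative (ZMod 6) × Multiplicative (ZMod 2)

/-- Block 1 of factor 18. -/
def f18_1 (a : A18) (v : ZMod 2 × ZMod 2) : ZMod 2 × ZMod 2 := (fun v : ZMod 2 × ZMod 2 => (v.1 + v.2, v.2))^[(Multiplicative.toAdd a.2).val] (v)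

/-- The action on block 1 of factor 18. -/
def φ18_1 : A18 →* MulAut (Multiplicative (ZMod 2 × ZMod 2)) :=
  mkAct f18_1 (by decide +kernel) (by decide +kernel) (by decide +kernel)

/-- Layer 1 of factor 18. -/
abbrev G18_1 : Type := Multiplicative (ZMod 2 × ZMod 2) ⋊[φ18_1.comp (MonoidHom.id A18)] A18

/-- The projection of layer 1 of factor 18. -/
def π18_1 : G18_1 →* A18 := (MonoidHom.id A18).comp SemidirectProduct.rightHom

/-- Block 2 of factor 18. -/
def f18_2 (_a : A18) (v : ZMod 3) : ZMod 3 := v

/-- The action on block 2 of factor 18. -/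
def φ18_2 : A18 →* MulAut (Multiplicative (ZMod 3)) :=
  mkAct f18_2 (by decide +kernel) (by decide +kernel) (by decide +kernel)

/-- Layer 2 of factor 18. -/
abbrev G18_2 : Type := Multiplicative (ZMod 3) ⋊[φ18_2.comp π18_1] G18_1

/-- The projection of layer 2 of factor 18. -/
def π18_2 : G18_2 →* A18 := π18_1.comp SemidirectProduct.rightHom

/-- Block 3 of factor 18. -/
def f18_3 (a : A18) (v : ZMod 7) : ZMod 7 := (fun v : ZMod 7 => 3 * v)^[(Multiplicative.toAdd a.1).val] (v)

/-- The action on block 3 of factor 18. -/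
def φ18_3 : A18 →* MulAut (Multiplicative (ZMod 7)) :=
  mkAct f18_3 (by decide +kernel) (by decide +kernel) (by decide +kernel)

/-- Layer 3 of factor 18. -/
abbrev G18_3 : Type := Multiplicative (ZMod 7) ⋊[φ18_3.comp π18_2] G18_2

/-- The projection of layer 3 of factor 18. -/
def π18_3 : G18_3 →* A18 := π18_2.comp SemidirectProduct.rightHom

/-- Factor 18. -/
abbrev G18 : Type := G18_3

/-- The counts of factor 18. -/
def tbl18 : ℕ → ℕ := fun n => if n = 1 then 1 else if n = 2 then 48 else if n = 3 then 45 else if n = 4 then 64 else if n = 6 then 648 else if n = 7 then 7 else if n = 12 then 864 else if n = 14 then 84 else if n = 21 then 63 else if n = 28 then 112 else if n = 42 then 756 else if n = 84 then 1008 else 0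

theorem eval18 : ∀ n ∈ Nat.divisors 84, (∑ a : A18, (if a ^ n = 1 then 1 else 0) * kcount (f18_1 a) n * kcount (f18_2 a) n * kcount (f18_3 a) n) = tbl18 n := by
  decide +kernel

theorem cnt18 (n : ℕ) (hn : n ∈ Nat.divisors 84) : cnt G18 n = tbl18 n := by
  rw [cnt_eq_sum_prof π18_3, ← eval18 n hn]
  refine Finset.sum_congr rfl fun a _ => ?_

  refine (prof_layer _ _ _ _ _ n a).trans ?_

  congr 1
  refine (prof_layer _ _ _ _ _ n a).trans ?_

  congr 1
  refine (prof_layer _ _ _ _ _ n a).trans ?_

  congr 1
  exact prof_id n a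

theorem card18 : Nat.card G18 = tbl18 84 := by
  simp only [card_semidirect, Nat.card_prod, Nat.card_zmod, Nat.card_congr Multiplicative.toAdd]
  rfl

theorem solvable18 : Group.IsSolvable G18 := by
  haveI : Group.IsSolvable A18 := Group.isSolvable_of_comm fun a b => mul_comm a b

  haveI : Group.IsSolvable G18_1 := isSolvable_semidirect _

  haveI : Group.IsSolvable G18_2 := isSolvable_semidirect _

  exact isSolvable_semidirect _

/-- The acting group of factor 19. -/
abbrev A19 : Type := Multiplicative (ZMod 2)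

/-- Block 1 of factor 19. -/
def f19_1 (a : A19) (v : ZMod 3) : ZMod 3 := (fun v : ZMod 3 => 2 * v)^[(Multiplicative.toAdd a).val] (v)

/-- The action on block 1 of factor 19. -/
def φ19_1 : A19 →* MulAut (Multiplicative (ZMod 3)) :=
  mkAct f19_1 (by decide +kernel) (by decide +kernel) (by decide +kernel)

/-- Layer 1 of factor 19. -/
abbrev G19_1 : Type := Multiplicative (ZMod 3) ⋊[φ19_1.comp (MonoidHom.id A19)] A19

/-- The projection of layer 1 of factor 19. -/
def π19_1 : G19_1 →* A19 := (MonoidHom.id A19).comp SemidirectProduct.rightHom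

/-- Block 2 of factor 19. -/
def f19_2 (a : A19) (v : ZMod 3) : ZMod 3 := (fun v : ZMod 3 => 2 * v)^[(Multiplicative.toAdd a).val] (v)

/-- The action on block 2 of factor 19. -/
def φ19_2 : A19 →* MulAut (Multiplicative (ZMod 3)) :=
  mkAct f19_2 (by decide +kernel) (by decide +kernel) (by decide +kernel)

/-- Layer 2 of factor 19. -/
abbrev G19_2 : Type := Multiplicative (ZMod 3) ⋊[φ19_2.comp π19_1] G19_1

/-- The projection of layer 2 of factor 19. -/
def π19_2 : G19_2 →* A19 := π19_1.comp SemidirectProduct.rightHom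

/-- Block 3 of factor 19. -/
def f19_3 (_a : A19) (v : ZMod 3 × ZMod 3) : ZMod 3 × ZMod 3 := v

/-- The action on block 3 of factor 19. -/
def φ19_3 : A19 →* MulAut (Multiplicative (ZMod 3 × ZMod 3)) :=
  mkAct f19_3 (by decide +kernel) (by decide +kernel) (by decide +kernel)

/-- Layer 3 of factor 19. -/
abbrev G19_3 : Type := Multiplicative (ZMod 3 × ZMod 3) ⋊[φ19_3.comp π19_2] G19_2

/-- The projection of layer 3 of factor 19. -/
def π19_3 : G19_3 →* A19 := π19_2.comp SemidirectProduct.rightHom

/-- Block 4 of factor 19. -/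
def f19_4 (a : A19) (v : ZMod 7) : ZMod 7 := (fun v : ZMod 7 => 6 * v)^[(Multiplicative.toAdd a).val] (v)

/-- The action on block 4 of factor 19. -/
def φ19_4 : A19 →* MulAut (Multiplicative (ZMod 7)) :=
  mkAct f19_4 (by decide +kernel) (by decide +kernel) (by decide +kernel)

/-- Layer 4 of factor 19. -/
abbrev G19_4 : Type := Multiplicative (ZMod 7) ⋊[φ19_4.comp π19_3] G19_3

/-- The projection of layer 4 of factor 19. -/
def π19_4 : G19_4 →* A19 := π19_3.comp SemidirectProduct.rightHom

/-- Factor 19. -/
abbrev G19 : Type := G19_4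

/-- The counts of factor 19. -/
def tbl19 : ℕ → ℕ := fun n => if n = 1 then 1 else if n = 2 then 64 else if n = 3 then 81 else if n = 4 then 64 else if n = 6 then 648 else if n = 7 then 7 else if n = 12 then 648 else if n = 14 then 70 else if n = 21 then 567 else if n = 28 then 70 else if n = 42 then 1134 else if n = 84 then 1134 else 0

theorem eval19 : ∀ n ∈ Nat.divisors 84, (∑ a : A19, (if a ^ n = 1 then 1 else 0) * kcount (f19_1 a) n * kcount (f19_2 a) n * kcount (f19_3 a) n * kcount (f19_4 a) n) = tbl19 n := by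
  decide +kernel

theorem cnt19 (n : ℕ) (hn : n ∈ Nat.divisors 84) : cnt G19 n = tbl19 n := by
  rw [cnt_eq_sum_prof π19_4, ← eval19 n hn]
  refine Finset.sum_congr rfl fun a _ => ?_

  refine (prof_layer _ _ _ _ _ n a).trans ?_

  congr 1
  refine (prof_layer _ _ _ _ _ n a).trans ?_

  congr 1
  refine (prof_layer _ _ _ _ _ n a).trans ?_

  congr 1
  refine (prof_layer _ _ _ _ _ n a).trans ?_

  congr 1
  exact prof_id n a

theorem card19 : Nat.card G19 = tbl19 84 := by
  simp only [card_semidirect, Nat.card_prod, Nat.card_zmod, Nat.card_congr Multiplicative.toAdd]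
  rfl

theorem solvable19 : Group.IsSolvable G19 := by
  haveI : Group.IsSolvable A19 := Group.isSolvable_of_comm fun a b => mul_comm a b

  haveI : Group.IsSolvable G19_1 := isSolvable_semidirect _

  haveI : Group.IsSolvable G19_2 := isSolvable_semidirect _

  haveI : Group.IsSolvable G19_3 := isSolvable_semidirect _

  exact isSolvable_semidirect _

/-- The acting group of factor 20. -/
abbrev A20 : Type := Multiplicative (ZMod 2) × Multiplicative (ZMod 2)

/-- Block 1 of factor 20. -/
def f20_1 (a : A20) (v : ZMod 7) : ZMod 7 := (fun v : ZMod 7 => 6 * v)^[(Multiplicative.toAdd a.2).val] (v)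

/-- The action on block 1 of factor 20. -/
def φ20_1 : A20 →* MulAut (Multiplicative (ZMod 7)) :=
  mkAct f20_1 (by decide +kernel) (by decide +kernel) (by decide +kernel)

/-- Layer 1 of factor 20. -/
abbrev G20_1 : Type := Multiplicative (ZMod 7) ⋊[φ20_1.comp (MonoidHom.id A20)] A20

/-- The projection of layer 1 of factor 20. -/
def π20_1 : G20_1 →* A20 := (MonoidHom.id A20).comp SemidirectProduct.rightHom

/-- Block 2 of factor 20. -/
def f20_2 (_a : A20) (v : ZMod 7) : ZMod 7 := v

/-- The action on block 2 of factor 20. -/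
def φ20_2 : A20 →* MulAut (Multiplicative (ZMod 7)) :=
  mkAct f20_2 (by decide +kernel) (by decide +kernel) (by decide +kernel)

/-- Layer 2 of factor 20. -/
abbrev G20_2 : Type := Multiplicative (ZMod 7) ⋊[φ20_2.comp π20_1] G20_1

/-- The projection of layer 2 of factor 20. -/
def π20_2 : G20_2 →* A20 := π20_1.comp SemidirectProduct.rightHom

/-- Block 3 of factor 20. -/
def f20_3 (a : A20) (v : ZMod 7) : ZMod 7 := (fun v : ZMod 7 => 6 * v)^[(Multiplicative.toAdd a.1).val] (v)

/-- The action on block 3 of factor 20. -/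
def φ20_3 : A20 →* MulAut (Multiplicative (ZMod 7)) :=
  mkAct f20_3 (by decide +kernel) (by decide +kernel) (by decide +kernel)

/-- Layer 3 of factor 20. -/
abbrev G20_3 : Type := Multiplicative (ZMod 7) ⋊[φ20_3.comp π20_2] G20_2

/-- The projection of layer 3 of factor 20. -/
def π20_3 : G20_3 →* A20 := π20_2.comp SemidirectProduct.rightHom

/-- Factor 20. -/
abbrev G20 : Type := G20_3

/-- The counts of factor 20. -/
def tbl20 : ℕ → ℕ := fun n => if n = 1 then 1 else if n = 2 then 64 else if n = 3 then 1 else if n = 4 then 64 else if n = 6 then 64 else if n = 7 then 343 else if n = 12 then 64 else if n = 14 then 1372 else if n = 21 then 343 else if n = 28 then 1372 else if n = 42 then 1372 else if n = 84 then 1372 else 0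

theorem eval20 : ∀ n ∈ Nat.divisors 84, (∑ a : A20, (if a ^ n = 1 then 1 else 0) * kcount (f20_1 a) n * kcount (f20_2 a) n * kcount (f20_3 a) n) = tbl20 n := by
  decide +kernel

theorem cnt20 (n : ℕ) (hn : n ∈ Nat.divisors 84) : cnt G20 n = tbl20 n := by
  rw [cnt_eq_sum_prof π20_3, ← eval20 n hn]
  refine Finset.sum_congr rfl fun a _ => ?_

  refine (prof_layer _ _ _ _ _ n a).trans ?_

  congr 1
  refine (prof_layer _ _ _ _ _ n a).trans ?_

  congr 1
  refine (prof_layer _ _ _ _ _ n a).trans ?_

  congr 1
  exact prof_id n a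

theorem card20 : Nat.card G20 = tbl20 84 := by
  simp only [card_semidirect, Nat.card_prod, Nat.card_zmod, Nat.card_congr Multiplicative.toAdd]
  rfl

theorem solvable20 : Group.IsSolvable G20 := by
  haveI : Group.IsSolvable A20 := Group.isSolvable_of_comm fun a b => mul_comm a b

  haveI : Group.IsSolvable G20_1 := isSolvable_semidirect _

  haveI : Group.IsSolvable G20_2 := isSolvable_semidirect _

  exact isSolvable_semidirect _

/-- The acting group of factor 21. -/
abbrev A21 : Type := Multiplicative (ZMod 2) × Multiplicative (ZMod 2) × Multiplicative (ZMod 2)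

/-- Block 1 of factor 21. -/
def f21_1 (a : A21) (v : ZMod 3) : ZMod 3 := (fun v : ZMod 3 => 2 * v)^[(Multiplicative.toAdd a.2.2).val] (v)

/-- The action on block 1 of factor 21. -/
def φ21_1 : A21 →* MulAut (Multiplicative (ZMod 3)) :=
  mkAct f21_1 (by decide +kernel) (by decide +kernel) (by decide +kernel)

/-- Layer 1 of factor 21. -/
abbrev G21_1 : Type := Multiplicative (ZMod 3) ⋊[φ21_1.comp (MonoidHom.id A21)] A21

/-- The projection of layer 1 of factor 21. -/
def π21_1 : G21_1 →* A21 := (MonoidHom.id A21).comp SemidirectProduct.rightHom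

/-- Block 2 of factor 21. -/
def f21_2 (a : A21) (v : ZMod 3) : ZMod 3 := (fun v : ZMod 3 => 2 * v)^[(Multiplicative.toAdd a.2.1).val] (v)

/-- The action on block 2 of factor 21. -/
def φ21_2 : A21 →* MulAut (Multiplicative (ZMod 3)) :=
  mkAct f21_2 (by decide +kernel) (by decide +kernel) (by decide +kernel)

/-- Layer 2 of factor 21. -/
abbrev G21_2 : Type := Multiplicative (ZMod 3) ⋊[φ21_2.comp π21_1] G21_1

/-- The projection of layer 2 of factor 21. -/
def π21_2 : G21_2 →* A21 := π21_1.comp SemidirectProduct.rightHom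

/-- Block 3 of factor 21. -/
def f21_3 (a : A21) (v : ZMod 3) : ZMod 3 := (fun v : ZMod 3 => 2 * v)^[(Multiplicative.toAdd a.1).val] (v)

/-- The action on block 3 of factor 21. -/
def φ21_3 : A21 →* MulAut (Multiplicative (ZMod 3)) :=
  mkAct f21_3 (by decide +kernel) (by decide +kernel) (by decide +kernel)

/-- Layer 3 of factor 21. -/
abbrev G21_3 : Type := Multiplicative (ZMod 3) ⋊[φ21_3.comp π21_2] G21_2

/-- The projection of layer 3 of factor 21. -/
def π21_3 : G21_3 →* A21 := π21_2.comp SemidirectProduct.rightHom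

/-- Block 4 of factor 21. -/
def f21_4 (a : A21) (v : ZMod 7) : ZMod 7 := (fun v : ZMod 7 => 6 * v)^[(Multiplicative.toAdd a.2.2).val] ((fun v : ZMod 7 => 6 * v)^[(Multiplicative.toAdd a.2.1).val] ((fun v : ZMod 7 => 6 * v)^[(Multiplicative.toAdd a.1).val] (v)))

/-- The action on block 4 of factor 21. -/
def φ21_4 : A21 →* MulAut (Multiplicative (ZMod 7)) :=
  mkAct f21_4 (by decide +kernel) (by decide +kernel) (by decide +kernel)

/-- Layer 4 of factor 21. -/
abbrev G21_4 : Type := Multiplicative (ZMod 7) ⋊[φ21_4.comp π21_3] G21_3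

/-- The projection of layer 4 of factor 21. -/
def π21_4 : G21_4 →* A21 := π21_3.comp SemidirectProduct.rightHom

/-- Factor 21. -/
abbrev G21 : Type := G21_4

/-- The counts of factor 21. -/
def tbl21 : ℕ → ℕ := fun n => if n = 1 then 1 else if n = 2 then 280 else if n = 3 then 27 else if n = 4 then 280 else if n = 6 then 864 else if n = 7 then 7 else if n = 12 then 864 else if n = 14 then 448 else if n = 21 then 189 else if n = 28 then 448 else if n = 42 then 1512 else if n = 84 then 1512 else 0

theorem eval21 : ∀ n ∈ Nat.divisors 84, (∑ a : A21, (if a ^ n = 1 then 1 else 0) * kcount (f21_1 a) n * kcount (f21_2 a) n * kcount (f21_3 a) n * kcount (f21_4 a) n) = tbl21 n := by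
  decide +kernel

theorem cnt21 (n : ℕ) (hn : n ∈ Nat.divisors 84) : cnt G21 n = tbl21 n := by
  rw [cnt_eq_sum_prof π21_4, ← eval21 n hn]
  refine Finset.sum_congr rfl fun a _ => ?_

  refine (prof_layer _ _ _ _ _ n a).trans ?_

  congr 1
  refine (prof_layer _ _ _ _ _ n a).trans ?_

  congr 1
  refine (prof_layer _ _ _ _ _ n a).trans ?_

  congr 1
  refine (prof_layer _ _ _ _ _ n a).trans ?_

  congr 1
  exact prof_id n a

theorem card21 : Nat.card G21 = tbl21 84 := by
  simp only [card_semidirect, Nat.card_prod, Nat.card_zmod, Nat.card_congr Multiplicative.toAdd]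
  rfl

theorem solvable21 : Group.IsSolvable G21 := by
  haveI : Group.IsSolvable A21 := Group.isSolvable_of_comm fun a b => mul_comm a b

  haveI : Group.IsSolvable G21_1 := isSolvable_semidirect _

  haveI : Group.IsSolvable G21_2 := isSolvable_semidirect _

  haveI : Group.IsSolvable G21_3 := isSolvable_semidirect _

  exact isSolvable_semidirect _

/-- The acting group of factor 22. -/
abbrev A22 : Type := Multiplicative (ZMod 6)

/-- Block 1 of factor 22. -/
def f22_1 (_a : A22) (v : ZMod 2 × ZMod 2) : ZMod 2 × ZMod 2 := v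

/-- The action on block 1 of factor 22. -/
def φ22_1 : A22 →* MulAut (Multiplicative (ZMod 2 × ZMod 2)) :=
  mkAct f22_1 (by decide +kernel) (by decide +kernel) (by decide +kernel)

/-- Layer 1 of factor 22. -/
abbrev G22_1 : Type := Multiplicative (ZMod 2 × ZMod 2) ⋊[φ22_1.comp (MonoidHom.id A22)] A22

/-- The projection of layer 1 of factor 22. -/
def π22_1 : G22_1 →* A22 := (MonoidHom.id A22).comp SemidirectProduct.rightHom

/-- Block 2 of factor 22. -/
def f22_2 (a : A22) (v : ZMod 3 × ZMod 3) : ZMod 3 × ZMod 3 := (fun v : ZMod 3 × ZMod 3 => (v.1 + v.2, v.2))^[((Multiplicative.toAdd a).val % 3)] (v)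

/-- The action on block 2 of factor 22. -/
def φ22_2 : A22 →* MulAut (Multiplicative (ZMod 3 × ZMod 3)) :=
  mkAct f22_2 (by decide +kernel) (by decide +kernel) (by decide +kernel)

/-- Layer 2 of factor 22. -/
abbrev G22_2 : Type := Multiplicative (ZMod 3 × ZMod 3) ⋊[φ22_2.comp π22_1] G22_1

/-- The projection of layer 2 of factor 22. -/
def π22_2 : G22_2 →* A22 := π22_1.comp SemidirectProduct.rightHom

/-- Block 3 of factor 22. -/
def f22_3 (a : A22) (v : ZMod 3 × ZMod 3) : ZMod 3 × ZMod 3 := (fun v : ZMod 3 × ZMod 3 => (v.2, 2 * v.1 + v.2))^[(Multiplicative.toAdd a).val] (v)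

/-- The action on block 3 of factor 22. -/
def φ22_3 : A22 →* MulAut (Multiplicative (ZMod 3 × ZMod 3)) :=
  mkAct f22_3 (by decide +kernel) (by decide +kernel) (by decide +kernel)

/-- Layer 3 of factor 22. -/
abbrev G22_3 : Type := Multiplicative (ZMod 3 × ZMod 3) ⋊[φ22_3.comp π22_2] G22_2

/-- The projection of layer 3 of factor 22. -/
def π22_3 : G22_3 →* A22 := π22_2.comp SemidirectProduct.rightHom

/-- Factor 22. -/
abbrev G22 : Type := G22_3

/-- The counts of factor 22. -/
def tbl22 : ℕ → ℕ := fun n => if n = 1 then 1 else if n = 2 then 40 else if n = 3 then 243 else if n = 4 then 40 else if n = 6 then 1944 else if n = 7 then 1 else if n = 12 then 1944 else if n = 14 then 40 else if n = 21 then 243 else if n = 28 then 40 else if n = 42 then 1944 else if n = 84 then 1944 else 0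

theorem eval22 : ∀ n ∈ Nat.divisors 84, (∑ a : A22, (if a ^ n = 1 then 1 else 0) * kcount (f22_1 a) n * kcount (f22_2 a) n * kcount (f22_3 a) n) = tbl22 n := by
  decide +kernel

theorem cnt22 (n : ℕ) (hn : n ∈ Nat.divisors 84) : cnt G22 n = tbl22 n := by
  rw [cnt_eq_sum_prof π22_3, ← eval22 n hn]
  refine Finset.sum_congr rfl fun a _ => ?_

  refine (prof_layer _ _ _ _ _ n a).trans ?_

  congr 1
  refine (prof_layer _ _ _ _ _ n a).trans ?_

  congr 1
  refine (prof_layer _ _ _ _ _ n a).trans ?_

  congr 1
  exact prof_id n a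

theorem card22 : Nat.card G22 = tbl22 84 := by
  simp only [card_semidirect, Nat.card_prod, Nat.card_zmod, Nat.card_congr Multiplicative.toAdd]
  rfl

theorem solvable22 : Group.IsSolvable G22 := by
  haveI : Group.IsSolvable A22 := Group.isSolvable_of_comm fun a b => mul_comm a b

  haveI : Group.IsSolvable G22_1 := isSolvable_semidirect _

  haveI : Group.IsSolvable G22_2 := isSolvable_semidirect _

  exact isSolvable_semidirect _

end CfsgLib.HallGen.OrderTypeExample
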