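import Cfsg.Agent.Lib.HallGen.OrderTypeExample.Small
import Cfsg.Agent.Lib.HallGen.OrderTypeExample.FactorsA
import Cfsg.Agent.Lib.HallGen.OrderTypeExample.FactorsB
import Cfsg.Agent.Lib.HallGen.OrderTypeExample.FactorsC

/-!
A solvable and a nonsolvable group with the same number of elements of each order.
-/

set_option maxHeartbeats 4000000
set_option synthInstance.maxHeartbeats 400000
set_option synthInstance.maxSize 1024
set_option maxRecDepth 4000

open CfsgLib.HallGen.OrderType

namespace CfsgLib.HallGen.OrderTypeExample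

/-- The solvable group. -/
abbrev GS : Type := AGL × (Fin 1 → G0) × (Fin 1 → G2) × (Fin 5 → G3) × (Fin 7 → G4) × (Fin 2 → G6) × (Fin 2 → G7) × (Fin 4 → G9) × (Fin 1 → G10) × (Fin 2 → G12) × (Fin 1 → G13) × (Fin 1 → G17) × (Fin 2 → G19) × (Fin 1 → G21)

/-- The nonsolvable group. -/
abbrev GN : Type := L27 × (Fin 3 → G1) × (Fin 4 → G5) × (Fin 2 → G8) × (Fin 2 → G11) × (Fin 1 → G14) × (Fin 1 → G15) × (Fin 1 → G16) × (Fin 4 → G18) × (Fin 3 → G20) × (Fin 5 → G22)

/-- Counts of the solvable group. -/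
def tblGS (n : ℕ) : ℕ := tblAGL n * (tbl0 n ^ 1 * (tbl2 n ^ 1 * (tbl3 n ^ 5 * (tbl4 n ^ 7 * (tbl6 n ^ 2 * (tbl7 n ^ 2 * (tbl9 n ^ 4 * (tbl10 n ^ 1 * (tbl12 n ^ 2 * (tbl13 n ^ 1 * (tbl17 n ^ 1 * (tbl19 n ^ 2 * (tbl21 n ^ 1)))))))))))))

/-- Counts of the nonsolvable group. -/
def tblGN (n : ℕ) : ℕ := tblL27 n * (tbl1 n ^ 3 * (tbl5 n ^ 4 * (tbl8 n ^ 2 * (tbl11 n ^ 2 * (tbl14 n ^ 1 * (tbl15 n ^ 1 * (tbl16 n ^ 1 * (tbl18 n ^ 4 * (tbl20 n ^ 3 * (tbl22 n ^ 5))))))))))

theorem tbl_eq : ∀ n ∈ Nat.divisors 84, tblGS n = tblGN n := by decide +kernel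

theorem cntGS (n : ℕ) (hn : n ∈ Nat.divisors 84) : cnt GS n = tblGS n := by
  simp only [cnt_prod, cnt_pi, cntAGL n hn, cnt0 n hn, cnt2 n hn, cnt3 n hn, cnt4 n hn, cnt6 n hn, cnt7 n hn, cnt9 n hn, cnt10 n hn, cnt12 n hn, cnt13 n hn, cnt17 n hn, cnt19 n hn, cnt21 n hn]
  rfl

theorem cardGS : Nat.card GS = tblGS 84 := by
  simp only [Nat.card_prod, Nat.card_fun, Nat.card_fin, cardAGL, card0, card2, card3, card4, card6, card7, card9, card10, card12, card13, card17, card19, card21]
  rfl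

theorem cntGN (n : ℕ) (hn : n ∈ Nat.divisors 84) : cnt GN n = tblGN n := by
  simp only [cnt_prod, cnt_pi, cntL27 n hn, cnt1 n hn, cnt5 n hn, cnt8 n hn, cnt11 n hn, cnt14 n hn, cnt15 n hn, cnt16 n hn, cnt18 n hn, cnt20 n hn, cnt22 n hn]
  rfl

theorem cardGN : Nat.card GN = tblGN 84 := by
  simp only [Nat.card_prod, Nat.card_fun, Nat.card_fin, cardL27, card1, card5, card8, card11, card14, card15, card16, card18, card20, card22]
  rfl

instance finiteGS : Finite GS :=
  Nat.finite_of_card_ne_zero (by rw [cardGS]; decide +kernel)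

instance finiteGN : Finite GN :=
  Nat.finite_of_card_ne_zero (by rw [cardGN]; decide +kernel)

theorem solvableGS : Group.IsSolvable GS := by
  haveI := solvableAGL
  haveI : Group.IsSolvable (Fin 1 → G0) := by haveI := solvable0; exact isSolvable_pi_fin _
  haveI : Group.IsSolvable (Fin 1 → G2) := by haveI := solvable2; exact isSolvable_pi_fin _
  haveI : Group.IsSolvable (Fin 5 → G3) := by haveI := solvable3; exact isSolvable_pi_fin _
  haveI : Group.IsSolvable (Fin 7 → G4) := by haveI := solvable4; exact isSolvable_pi_fin _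
  haveI : Group.IsSolvable (Fin 2 → G6) := by haveI := solvable6; exact isSolvable_pi_fin _
  haveI : Group.IsSolvable (Fin 2 → G7) := by haveI := solvable7; exact isSolvable_pi_fin _
  haveI : Group.IsSolvable (Fin 4 → G9) := by haveI := solvable9; exact isSolvable_pi_fin _
  haveI : Group.IsSolvable (Fin 1 → G10) := by haveI := solvable10; exact isSolvable_pi_fin _
  haveI : Group.IsSolvable (Fin 2 → G12) := by haveI := solvable12; exact isSolvable_pi_fin _
  haveI : Group.IsSolvable (Fin 1 → G13) := by haveI := solvable13; exact isSolvable_pi_fin _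
  haveI : Group.IsSolvable (Fin 1 → G17) := by haveI := solvable17; exact isSolvable_pi_fin _
  haveI : Group.IsSolvable (Fin 2 → G19) := by haveI := solvable19; exact isSolvable_pi_fin _
  haveI : Group.IsSolvable (Fin 1 → G21) := by haveI := solvable21; exact isSolvable_pi_fin _
  infer_instance

theorem not_solvableGN : ¬ Group.IsSolvable GN := by
  intro h
  haveI := h
  haveI : Group.IsSolvable L27 :=
    Group.isSolvable_of_surjective (f := (MonoidHom.fst L27 _ : GN →* L27)) (fun x => ⟨(x, 1), rfl⟩)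
  haveI : Fact (Nat.Prime 2) := ⟨Nat.prime_two⟩
  have hnt : Nontrivial L27 := Finite.one_lt_card_iff_nontrivial.1 (by rw [cardL27]; decide)
  exact (Group.IsSolvable.commutator_lt_top_of_nontrivial L27).ne
    (CfsgLib.Classical.commutator_SL_eq_top (F := ZMod 2) le_rfl)

theorem card_orderOf (n : ℕ) :
    Nat.card {g : GS // orderOf g = n} = Nat.card {h : GN // orderOf h = n} :=
  card_orderOf_eq (L := 84) (by norm_num)
    ((cntGS 84 (by decide)).trans cardGS.symm) ((cntGN 84 (by decide)).trans cardGN.symm)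
    (fun m hm => by rw [cntGS m hm, cntGN m hm]; exact tbl_eq m hm) n

end CfsgLib.HallGen.OrderTypeExample
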