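import Cfsg.Agent.Lib.HallGen.OrderType
import Cfsg.Agent.Lib.Classical.SLGroup

/-!
The affine semilinear group of order 168 and `SL(3,2)`: solution counts of `x ^ n = 1`.
-/

set_option maxHeartbeats 2000000
set_option maxRecDepth 10000

open CfsgLib.HallGen.OrderType

namespace CfsgLib.HallGen.OrderTypeExample

/-- Doubling on `ZMod 7`. -/
def fF (j : Multiplicative (ZMod 3)) (v : ZMod 7) : ZMod 7 :=
  (fun v : ZMod 7 => 2 * v)^[(Multiplicative.toAdd j).val] v

/-- The action of order three. -/
def φF : Multiplicative (ZMod 3) →* MulAut (Multiplicative (ZMod 7)) :=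
  mkAct fF (by decide +kernel) (by decide +kernel) (by decide +kernel)

/-- The Frobenius group of order 21. -/
abbrev F21 : Type :=
  Multiplicative (ZMod 7) ⋊[φF.comp (MonoidHom.id (Multiplicative (ZMod 3)))] Multiplicative (ZMod 3)

instance : Fintype F21 := Fintype.ofEquiv _ SemidirectProduct.equivProd.symm

/-- The semilinear action on the field of order 8. -/
def fS (a : F21) (v : ZMod 2 × ZMod 2 × ZMod 2) : ZMod 2 × ZMod 2 × ZMod 2 :=
  (fun v : ZMod 2 × ZMod 2 × ZMod 2 => (v.2.2, v.1 + v.2.2, v.2.1))^[(Multiplicative.toAdd a.left).val]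
    ((fun v : ZMod 2 × ZMod 2 × ZMod 2 => (v.1, v.2.2, v.2.1 + v.2.2))^[(Multiplicative.toAdd a.right).val] v)

/-- The action of the group of order 21. -/
def φS : F21 →* MulAut (Multiplicative (ZMod 2 × ZMod 2 × ZMod 2)) :=
  mkAct fS (by decide +kernel) (by decide +kernel) (by decide +kernel)

/-- The affine semilinear group of order 168. -/
abbrev AGL : Type := Multiplicative (ZMod 2 × ZMod 2 × ZMod 2) ⋊[φS.comp (MonoidHom.id F21)] F21

/-- The common counts of the two groups of order 168 at odd divisors, and of the solvable one at all. -/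
def tblAGL : ℕ → ℕ := fun n =>
  if n = 1 then 1 else if n = 2 then 8 else if n = 3 then 57 else if n = 4 then 8 else if n = 6 then 120 else
  if n = 7 then 49 else if n = 12 then 120 else if n = 14 then 56 else if n = 21 then 105 else
  if n = 28 then 56 else if n = 42 then 168 else if n = 84 then 168 else 0

theorem evalAGL : ∀ n ∈ Nat.divisors 84,
    (∑ a : F21, (if a ^ n = 1 then 1 else 0) * kcount (fS a) n) = tblAGL n := by decide +kernel

theorem cntAGL (n : ℕ) (hn : n ∈ Nat.divisors 84) : cnt AGL n = tblAGL n := by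
  rw [cnt_eq_sum_prof ((MonoidHom.id F21).comp SemidirectProduct.rightHom), ← evalAGL n hn]
  refine Finset.sum_congr rfl fun a _ => ?_
  refine (prof_layer _ _ _ _ _ n a).trans ?_
  congr 1
  exact prof_id n a

theorem cardAGL : Nat.card AGL = tblAGL 84 := by
  simp only [card_semidirect, Nat.card_prod, Nat.card_zmod, Nat.card_congr Multiplicative.toAdd]
  rfl

theorem solvableAGL : Group.IsSolvable AGL := by
  haveI : Group.IsSolvable (Multiplicative (ZMod 3)) := Group.isSolvable_of_comm fun a b => mul_comm a b
  haveI : Group.IsSolvable F21 := isSolvable_semidirect _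
  exact isSolvable_semidirect _

/-- `SL(3,2)`. -/
abbrev L27 : Type := Matrix.SpecialLinearGroup (Fin 3) (ZMod 2)

/-- The counts of `SL(3,2)`. -/
def tblL27 : ℕ → ℕ := fun n =>
  if n = 1 then 1 else if n = 2 then 22 else if n = 3 then 57 else if n = 4 then 64 else if n = 6 then 78 else
  if n = 7 then 49 else if n = 12 then 120 else if n = 14 then 70 else if n = 21 then 105 else
  if n = 28 then 112 else if n = 42 then 126 else if n = 84 then 168 else 0

theorem cardUnivL27 : (Finset.univ : Finset L27).card = 168 := by decide +kernel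

/-- A cheap computation of the order of an element of `SL(3,2)`. -/
def ordKey (g : L27) : ℕ :=
  if g = 1 then 1 else if g * g = 1 then 2 else if g * g * g = 1 then 3 else
  if g * g * (g * g) = 1 then 4 else 7

theorem pow_ordKey : ∀ g : L27, g ^ ordKey g = 1 := by decide +kernel

theorem sum_ordKey : (∑ g : L27, 1000 ^ ordKey g)
    = 1000 + 21 * 1000 ^ 2 + 56 * 1000 ^ 3 + 42 * 1000 ^ 4 + 48 * 1000 ^ 7 := by decide +kernel

theorem ordKey_mem (g : L27) : ordKey g ∈ ({1, 2, 3, 4, 7} : Finset ℕ) := by
  unfold ordKey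
  split_ifs <;> decide

theorem orderOf_eq_ordKey (g : L27) : orderOf g = ordKey g := by
  haveI : Fact (Nat.Prime 2) := ⟨by norm_num⟩
  haveI : Fact (Nat.Prime 3) := ⟨by norm_num⟩
  haveI : Fact (Nat.Prime 7) := ⟨by norm_num⟩
  have h := pow_ordKey g
  unfold ordKey at h ⊢
  split_ifs at h ⊢ with h1 h2 h3 h4
  · rw [h1, orderOf_one]
  · exact orderOf_eq_prime h h1
  · exact orderOf_eq_prime h h1
  · refine orderOf_eq_prime_pow (p := 2) (n := 1) ?_ h
    rwa [pow_one, pow_two]
  · exact orderOf_eq_prime h h1

/-- The number of elements of each order of `SL(3,2)`. -/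
theorem card_ordKey : ∀ d ∈ ({1, 2, 3, 4, 7} : Finset ℕ),
    (Finset.univ.filter fun g : L27 => ordKey g = d).card
      = if d = 1 then 1 else if d = 2 then 21 else if d = 3 then 56 else if d = 4 then 42 else 48 := by
  have hS := sum_ordKey
  rw [← Finset.sum_fiberwise_of_maps_to (fun g _ => ordKey_mem g) (fun g => 1000 ^ ordKey g)] at hS
  rw [Finset.sum_congr rfl (fun d _ => Finset.sum_congr rfl
    (fun g hg => by rw [(Finset.mem_filter.1 hg).2] :
      ∀ g ∈ Finset.univ.filter (fun g : L27 => ordKey g = d), 1000 ^ ordKey g = 1000 ^ d))] at hS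
  simp only [Finset.sum_const, smul_eq_mul] at hS
  have hle : ∀ d, (Finset.univ.filter fun g : L27 => ordKey g = d).card ≤ 168 := fun d =>
    (Finset.card_filter_le _ _).trans (le_of_eq cardUnivL27)
  rw [Finset.sum_insert (by decide), Finset.sum_insert (by decide), Finset.sum_insert (by decide),
    Finset.sum_insert (by decide), Finset.sum_singleton] at hS
  norm_num at hS
  have a1 := hle 1; have a2 := hle 2; have a3 := hle 3; have a4 := hle 4; have a7 := hle 7
  intro d hd
  simp only [Finset.mem_insert, Finset.mem_singleton] at hd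
  rcases hd with rfl | rfl | rfl | rfl | rfl <;>
    simp only [reduceIte, OfNat.ofNat_ne_one, Nat.reduceEqDiff] <;>
    revert hS a1 a2 a3 a4 a7 <;>
    generalize (Finset.univ.filter fun g : L27 => ordKey g = 1).card = x1 <;>
    generalize (Finset.univ.filter fun g : L27 => ordKey g = 2).card = x2 <;>
    generalize (Finset.univ.filter fun g : L27 => ordKey g = 3).card = x3 <;>
    generalize (Finset.univ.filter fun g : L27 => ordKey g = 4).card = x4 <;>
    generalize (Finset.univ.filter fun g : L27 => ordKey g = 7).card = x7 <;>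
    intros <;> omega

theorem cntL27 (n : ℕ) (hn : n ∈ Nat.divisors 84) : cnt L27 n = tblL27 n := by
  have hiff : ∀ g : L27, g ^ n = 1 ↔ ordKey g ∣ n := fun g => by
    rw [← orderOf_eq_ordKey, orderOf_dvd_iff_pow_eq_one]
  rw [cnt_eq_card_filter, Finset.filter_congr (fun g _ => hiff g),
    Finset.card_eq_sum_card_fiberwise (t := ({1, 2, 3, 4, 7} : Finset ℕ)) (f := ordKey)
      (fun g _ => ordKey_mem g)]
  have : ∀ d ∈ ({1, 2, 3, 4, 7} : Finset ℕ),
      ((Finset.univ.filter fun g : L27 => ordKey g ∣ n).filter fun g => ordKey g = d).card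
        = if d ∣ n then (if d = 1 then 1 else if d = 2 then 21 else if d = 3 then 56
            else if d = 4 then 42 else 48) else 0 := by
    intro d hd
    rw [Finset.filter_filter]
    split_ifs with hdn
    all_goals first
      | (rw [Finset.filter_congr (q := fun g => ordKey g = d)
          (fun g _ => ⟨fun h => h.2, fun h => ⟨h ▸ hdn, h⟩⟩)]
         have := card_ordKey d hd; simp_all; done)
      | (rw [Finset.card_eq_zero, Finset.filter_eq_empty_iff]
         exact fun g _ h => hdn (h.2 ▸ h.1))
  rw [Finset.sum_congr rfl this]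
  have hdv : n ∈ ({1, 2, 3, 4, 6, 7, 12, 14, 21, 28, 42, 84} : Finset ℕ) := by
    rwa [show Nat.divisors 84 = {1, 2, 3, 4, 6, 7, 12, 14, 21, 28, 42, 84} from by decide] at hn
  revert hdv
  generalize n = m
  revert m
  decide

theorem cardL27 : Nat.card L27 = tblL27 84 := by
  rw [Nat.card_eq_fintype_card]
  exact cardUnivL27

end CfsgLib.HallGen.OrderTypeExample
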